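import Groth.Agent.DerBCLib.Sec
import Groth.Agent.RpushLib.HBase
import Groth.Agent.S2297

/-!
# Sections over an affine open of modules quasi-coherent there

`LQ M U`: sections of `M` over `U` localise. Tensor products and inverse images are computed on sections.
-/

set_option autoImplicit false
set_option backward.isDefEq.respectTransparency false
set_option backward.isDefEq.respectTransparency.types false
set_option linter.style.haveILetI false

universe u

open CategoryTheory CategoryTheory.Limits AlgebraicGeometry TopologicalSpace Opposite TensorProduct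
open Groth.Agent
open KFlatLib (tens shTm puSec puSecLE puSecLE_apply gm_puSecLE pb bijective_of_local_loc stalkPullIso
  stalkPullInv_germ)
open RpushLib (secFun secMap₀ extSL extSL_tmul)

namespace DerBCLib

variable {X Y : Scheme.{u}}

/-- Sections over `U` localise. -/
def LQ (M : X.Modules) (U : X.Opens) : Prop := ∀ f : Γ(X, U), QCohLib.LocalizingAt M f

theorem lq_iff {U : X.Opens} (hU : IsAffineOpen U) (M : X.Modules) :
    LQ M U ↔ Coh.IsQCoh (M.restrict hU.fromSpec) :=
  (QCohLib.isLocalizing_iff_localizingAt hU M).symm.trans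
    ((isIso_fromTildeΓ_iff_isLocalizing _).symm.trans (isQuasicoherent_iff_isIso_fromTildeΓ _).symm)

theorem lq_of_qcoh {U : X.Opens} (hU : IsAffineOpen U) (M : X.Modules) [Coh.IsQCoh M] : LQ M U :=
  QCohLib.localizingAt_of_isQCoh hU M

theorem lq_of_iso {U : X.Opens} (hU : IsAffineOpen U) {M N : X.Modules} (e : M ≅ N) (h : LQ M U) :
    LQ N U :=
  (lq_iff hU N).2 (@QCohLib.isQCoh_of_iso _ _ _ ((Scheme.Modules.restrictFunctor hU.fromSpec).mapIso e)
    ((lq_iff hU M).1 h))

theorem lq_pb (g : X ⟶ Y) {U : Y.Opens} (hU : IsAffineOpen U) {M : Y.Modules} (hM : LQ M U)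
    {U' : X.Opens} (hU' : IsAffineOpen U') (h : U' ≤ g ⁻¹ᵁ U) :
    LQ ((Scheme.Modules.pullback g).obj M) U' := by
  rw [lq_iff hU']
  let e : (Scheme.Modules.restrictFunctor hU'.fromSpec).obj ((Scheme.Modules.pullback g).obj M) ≅
      (Scheme.Modules.pullback (Spec.map (g.appLE U U' h))).obj (M.restrict hU.fromSpec) :=
    (Scheme.Modules.restrictFunctorIsoPullback hU'.fromSpec).app _ ≪≫
      (Scheme.Modules.pullbackComp hU'.fromSpec g).app M ≪≫
      (Scheme.Modules.pullbackCongr (IsAffineOpen.SpecMap_appLE_fromSpec g hU hU' h).symm).app M ≪≫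
      ((Scheme.Modules.pullbackComp (Spec.map (g.appLE U U' h)) hU.fromSpec).app M).symm ≪≫
      (Scheme.Modules.pullback (Spec.map (g.appLE U U' h))).mapIso
        ((Scheme.Modules.restrictFunctorIsoPullback hU.fromSpec).app M).symm
  haveI := (lq_iff hU M).1 hM
  exact @QCohLib.isQCoh_of_iso _ _ _ e.symm (KFlatLib.isQCoh_pullback _ _)

theorem lq_tens {U : X.Opens} (hU : IsAffineOpen U) {M N : X.Modules} (hM : LQ M U) (hN : LQ N U) :
    LQ (tens M N) U := by
  rw [lq_iff hU]
  let j := hU.fromSpec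
  let e : (Scheme.Modules.restrictFunctor j).obj (tens M N) ≅ tens (pb j M) (pb j N) :=
    (Scheme.Modules.restrictFunctorIsoPullback j).app _ ≪≫ asIso (KFlatLib.pullθ j M N)
  haveI : Coh.IsQCoh (pb j M) := @QCohLib.isQCoh_of_iso _ _ _
    ((Scheme.Modules.restrictFunctorIsoPullback j).app M) ((lq_iff hU M).1 hM)
  haveI : Coh.IsQCoh (pb j N) := @QCohLib.isQCoh_of_iso _ _ _
    ((Scheme.Modules.restrictFunctorIsoPullback j).app N) ((lq_iff hU N).1 hN)
  exact @QCohLib.isQCoh_of_iso _ _ _ e.symm (Groth.Agent.S2297.result (pb j M) (pb j N)).1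

theorem isLocalizedModule_germLin_lq (M : X.Modules) {U : X.Opens} (hU : IsAffineOpen U) (hM : LQ M U)
    {x : X} (hx : x ∈ U) :
    letI := Module.compHom (M.presheaf.stalk x) (X.presheaf.germ U x hx).hom
    IsLocalizedModule (hU.primeIdealOf ⟨x, hx⟩).asIdeal.primeCompl (FlatLib.germLin M hx) := by
  letI := Module.compHom (M.presheaf.stalk x) (X.presheaf.germ U x hx).hom
  letI : Algebra Γ(X, U) (X.presheaf.stalk x) := (X.presheaf.germ U x hx).hom.toAlgebra
  haveI : IsScalarTower Γ(X, U) (X.presheaf.stalk x) (M.presheaf.stalk x) :=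
    IsScalarTower.of_algebraMap_smul fun _ _ ↦ rfl
  have hloc : IsLocalization.AtPrime (X.presheaf.stalk x) (hU.primeIdealOf ⟨x, hx⟩).asIdeal :=
    hU.isLocalization_stalk ⟨x, hx⟩
  have hmem : ∀ f : Γ(X, U), f ∉ (hU.primeIdealOf ⟨x, hx⟩).asIdeal ↔ x ∈ X.basicOpen f := fun f ↦
    (IsLocalization.AtPrime.isUnit_to_map_iff (X.presheaf.stalk x) _ f).symm.trans
      (X.mem_basicOpen f x hx).symm
  refine ⟨fun s ↦ ?_, fun σ ↦ ?_, fun {m n} hmn ↦ ?_⟩
  · have hu := IsLocalization.map_units (X.presheaf.stalk x) s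
    rw [Module.End.isUnit_iff]
    obtain ⟨v, hv⟩ := hu
    refine ⟨fun a b h ↦ ?_, fun a ↦ ⟨(↑v⁻¹ : X.presheaf.stalk x) • a, ?_⟩⟩
    · replace h : algebraMap Γ(X, U) (X.presheaf.stalk x) s • a =
          algebraMap Γ(X, U) (X.presheaf.stalk x) s • b := h
      rw [← hv] at h
      exact (v.isUnit.smul_left_cancel).mp h
    · show algebraMap Γ(X, U) (X.presheaf.stalk x) s • (↑v⁻¹ : X.presheaf.stalk x) • a = a
      rw [← hv, ← mul_smul, Units.mul_inv, one_smul]
  · obtain ⟨V, hxV, t, rfl⟩ := TopCat.Presheaf.exists_germ_eq M.presheaf (x := x) σ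
    obtain ⟨f, hfV, hxf⟩ := QCohLib.exists_basicOpen_nhd hU hxV hx
    obtain ⟨n, m, hm⟩ := (hM f).exists_extend
      (M.presheaf.map (homOfLE hfV).op t)
    refine ⟨(m, ⟨f ^ n, Submonoid.pow_mem _ ((hmem f).mpr hxf) n⟩), ?_⟩
    show X.presheaf.germ U x hx (f ^ n) • M.presheaf.germ V x hxV t = M.presheaf.germ U x hx m
    have h1 := congr_arg (M.presheaf.germ (X.basicOpen f) x hxf) hm
    rw [TopCat.Presheaf.germ_res_apply, FlatLib.germ_smul_mod, TopCat.Presheaf.germ_res_apply, map_pow,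
      FlatLib.germ_res_basicOpen] at h1
    rw [map_pow]
    exact h1.symm
  · replace hmn : M.presheaf.germ U x hx m = M.presheaf.germ U x hx n := hmn
    obtain ⟨W, hxW, iU, iV, hW⟩ := M.presheaf.germ_eq x hx hx m n hmn
    obtain ⟨f, hfW, hxf⟩ := QCohLib.exists_basicOpen_nhd hU hxW hx
    obtain rfl : iU = iV := Subsingleton.elim _ _
    have h0 : M.presheaf.map (homOfLE (X.basicOpen_le f)).op (m - n) = 0 := by
      have := congr_arg (M.presheaf.map (homOfLE hfW).op) hW
      rw [QCohLib.map_map', QCohLib.map_map'] at this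
      rw [map_sub, sub_eq_zero]
      exact this
    obtain ⟨k, hk⟩ := (hM f).eq_zero _ h0
    simp only [homOfLE_refl, op_id, CategoryTheory.Functor.map_id] at hk
    change f ^ k • (m - n) = 0 at hk
    rw [smul_sub, sub_eq_zero] at hk
    exact ⟨⟨f ^ k, Submonoid.pow_mem _ ((hmem f).mpr hxf) k⟩, hk⟩

section Pull

variable (g : X ⟶ Y)

/-- The germ at `x` of the pullback of a section, as a base change. -/
theorem isBaseChange_germ_puSec_lq (M : Y.Modules) {U : Y.Opens} (hU : IsAffineOpen U) (hM : LQ M U)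
    (x : X) (hx : g x ∈ U) [Algebra Γ(Y, U) (X.presheaf.stalk x)]
    [Module Γ(Y, U) ((pb g M).presheaf.stalk x)]
    [IsScalarTower Γ(Y, U) (X.presheaf.stalk x) ((pb g M).presheaf.stalk x)]
    (halg : ∀ r, algebraMap Γ(Y, U) (X.presheaf.stalk x) r =
      g.stalkMap x (Y.presheaf.germ U (g x) hx r))
    (l : Γ(M, U) →ₗ[Γ(Y, U)] (pb g M).presheaf.stalk x)
    (hl : ∀ m, l m = (pb g M).presheaf.germ (g ⁻¹ᵁ U) x hx (puSec g m)) :
    IsBaseChange (X.presheaf.stalk x) l := by
  let y := g x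
  let : Algebra Γ(Y, U) (Y.presheaf.stalk y) := (Y.presheaf.germ U y hx).hom.toAlgebra
  let : Algebra (Y.presheaf.stalk y) (X.presheaf.stalk x) := (g.stalkMap x).hom.toAlgebra
  have : IsScalarTower Γ(Y, U) (Y.presheaf.stalk y) (X.presheaf.stalk x) :=
    IsScalarTower.of_algebraMap_eq halg
  let := Module.compHom (M.presheaf.stalk y) (Y.presheaf.germ U y hx).hom
  have : IsScalarTower Γ(Y, U) (Y.presheaf.stalk y) (M.presheaf.stalk y) :=
    IsScalarTower.of_algebraMap_smul fun _ _ ↦ rfl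
  let := Module.compHom ((pb g M).presheaf.stalk x) (g.stalkMap x).hom
  have : IsScalarTower (Y.presheaf.stalk y) (X.presheaf.stalk x) ((pb g M).presheaf.stalk x) :=
    IsScalarTower.of_algebraMap_smul fun _ _ ↦ rfl
  have : IsScalarTower Γ(Y, U) (Y.presheaf.stalk y) ((pb g M).presheaf.stalk x) :=
    IsScalarTower.of_algebraMap_smul fun r σ ↦ by
      rw [← algebraMap_smul (X.presheaf.stalk x) r σ, halg]
      rfl
  have : IsLocalization.AtPrime (Y.presheaf.stalk y) (hU.primeIdealOf ⟨y, hx⟩).asIdeal :=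
    hU.isLocalization_stalk ⟨y, hx⟩
  have := isLocalizedModule_germLin_lq M hU hM hx
  have h₁ : IsBaseChange (Y.presheaf.stalk y) (FlatLib.germLin M hx) :=
    IsLocalizedModule.isBaseChange (hU.primeIdealOf ⟨y, hx⟩).asIdeal.primeCompl _ _
  let e : X.presheaf.stalk x ⊗[Y.presheaf.stalk y] M.presheaf.stalk y ≃ₗ[X.presheaf.stalk x]
      (pb g M).presheaf.stalk x :=
    ((stalkPullIso g x).symm.app M).toLinearEquiv
  let l₂ : M.presheaf.stalk y →ₗ[Y.presheaf.stalk y] (pb g M).presheaf.stalk x :=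
    (e.toLinearMap.restrictScalars (Y.presheaf.stalk y)).comp
      (TensorProduct.mk (Y.presheaf.stalk y) (X.presheaf.stalk x) (M.presheaf.stalk y) 1)
  have h₂ : IsBaseChange (X.presheaf.stalk x) l₂ := IsBaseChange.of_equiv e fun _ => rfl
  have key : (l₂.restrictScalars Γ(Y, U)).comp (FlatLib.germLin M hx) = l :=
    LinearMap.ext fun m => (stalkPullInv_germ g M x hx m).trans (hl m).symm
  exact key ▸ h₁.comp h₂

/-- `Γ(g^* M, U')` is the base change of `Γ(M, U)`, for affine `U' ≤ g ⁻¹ U`. -/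
theorem isBaseChange_puSec_lq (M : Y.Modules) {U : Y.Opens} (hU : IsAffineOpen U) (hM : LQ M U)
    {U' : X.Opens} (hU' : IsAffineOpen U') (h : U' ≤ g ⁻¹ᵁ U) [Algebra Γ(Y, U) Γ(X, U')]
    [Module Γ(Y, U) Γ(pb g M, U')] [IsScalarTower Γ(Y, U) Γ(X, U') Γ(pb g M, U')]
    (halg : ∀ r, algebraMap Γ(Y, U) Γ(X, U') r = (g.appLE U U' h).hom r)
    (ψ : Γ(M, U) →ₗ[Γ(Y, U)] Γ(pb g M, U')) (hψ : ∀ m, ψ m = puSecLE g M h m) :
    IsBaseChange Γ(X, U') ψ := by
  classical
  have hG := lq_pb g hU hM hU' h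
  let G := pb g M
  let Ψ := ψ.liftBaseChange Γ(X, U')
  have hpt : ∀ (x : X) (hx : x ∈ U'),
      (letI := Module.compHom (G.presheaf.stalk x) (X.presheaf.germ U' x hx).hom
       IsLocalizedModule (hU'.primeIdealOf ⟨x, hx⟩).asIdeal.primeCompl
        ((FlatLib.germLin G hx).comp Ψ)) := by
    intro x hx
    let := Module.compHom (G.presheaf.stalk x) (X.presheaf.germ U' x hx).hom
    let : Algebra Γ(X, U') (X.presheaf.stalk x) := (X.presheaf.germ U' x hx).hom.toAlgebra
    have : IsScalarTower Γ(X, U') (X.presheaf.stalk x) (G.presheaf.stalk x) :=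
      IsScalarTower.of_algebraMap_smul fun _ _ ↦ rfl
    have : IsLocalization.AtPrime (X.presheaf.stalk x) (hU'.primeIdealOf ⟨x, hx⟩).asIdeal :=
      hU'.isLocalization_stalk ⟨x, hx⟩
    let : Algebra Γ(Y, U) (X.presheaf.stalk x) :=
      ((X.presheaf.germ U' x hx).hom.comp (algebraMap Γ(Y, U) Γ(X, U'))).toAlgebra
    have : IsScalarTower Γ(Y, U) Γ(X, U') (X.presheaf.stalk x) :=
      IsScalarTower.of_algebraMap_eq fun _ => rfl
    let : Module Γ(Y, U) (G.presheaf.stalk x) :=
      Module.compHom (G.presheaf.stalk x) (algebraMap Γ(Y, U) (X.presheaf.stalk x))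
    have : IsScalarTower Γ(Y, U) (X.presheaf.stalk x) (G.presheaf.stalk x) :=
      IsScalarTower.of_algebraMap_smul fun _ _ ↦ rfl
    have : IsScalarTower Γ(Y, U) Γ(X, U') (G.presheaf.stalk x) :=
      IsScalarTower.of_algebraMap_smul fun _ _ ↦ rfl
    have halg' : ∀ r, algebraMap Γ(Y, U) (X.presheaf.stalk x) r =
        g.stalkMap x (Y.presheaf.germ U (g x) (h hx) r) := fun r => by
      change X.presheaf.germ U' x hx (algebraMap Γ(Y, U) Γ(X, U') r) = _
      rw [halg, Scheme.Hom.germ_stalkMap_apply]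
      exact TopCat.Presheaf.germ_res_apply X.presheaf _ _ _ _
    rw [isLocalizedModule_iff_isBaseChange _ (X.presheaf.stalk x)]
    refine IsBaseChange.of_comp (TensorProduct.isBaseChange Γ(Y, U) Γ(M, U) Γ(X, U')) ?_
    refine isBaseChange_germ_puSec_lq g M hU hM x (h hx) halg' _ fun m => ?_
    exact (congrArg (G.presheaf.germ U' x hx)
      ((LinearMap.liftBaseChange_tmul Γ(X, U') ψ 1 m).trans ((one_smul _ _).trans (hψ m)))).trans
      (gm_puSecLE g M h hx m)
  have hb : Function.Bijective Ψ := by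
    refine bijective_of_local_loc Ψ fun P hP => ?_
    let x := hU'.fromSpec (⟨P, hP.isPrime⟩ : PrimeSpectrum Γ(X, U'))
    have hx : x ∈ U' :=
      hU'.range_fromSpec.le (Set.mem_range_self (⟨P, hP.isPrime⟩ : PrimeSpectrum Γ(X, U')))
    have hprime : hU'.primeIdealOf ⟨x, hx⟩ = ⟨P, hP.isPrime⟩ :=
      hU'.fromSpec.isOpenEmbedding.injective (hU'.fromSpec_primeIdealOf _)
    let := Module.compHom (G.presheaf.stalk x) (X.presheaf.germ U' x hx).hom
    have h1 := isLocalizedModule_germLin_lq G hU' hG hx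
    have h2 := hpt x hx
    simp only [hprime] at h1 h2
    exact ⟨hP.isPrime, G.presheaf.stalk x, inferInstance, inferInstance, FlatLib.germLin G hx, h1, h2⟩
  exact IsBaseChange.of_equiv (LinearEquiv.ofBijective Ψ hb) fun m =>
    (LinearMap.liftBaseChange_tmul Γ(X, U') ψ 1 m).trans (one_smul _ _)

end Pull

section Sections

variable {X' : Scheme.{u}} {R B : Type u} [CommRing R] [CommRing B] [Algebra R B]

/-- `B ⊗ Γ(M, V) = Γ(g^* M, V')` when `Γ(X', V') = B ⊗ Γ(X, V)`. -/
theorem bijective_secMap₀_lq (g : X' ⟶ X) {V : X.Opens} (hV : IsAffineOpen V)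
    (φ : R →+* Γ(X, V)) {U : X'.Opens} (hU : IsAffineOpen U) (ψ : B →+* Γ(X', U))
    (h : U ≤ g ⁻¹ᵁ V) (hc : ∀ r, g.appLE V U h (φ r) = ψ (algebraMap R B r))
    (hpo : IsPushout (CommRingCat.ofHom φ) (CommRingCat.ofHom (algebraMap R B)) (g.appLE V U h)
      (CommRingCat.ofHom ψ))
    (M : X.Modules) (hM : LQ M V) :
    Function.Bijective (extSL (secMap₀ (σ := algebraMap R B) g φ ψ h hc
      ((Scheme.Modules.pullbackPushforwardAdjunction g).unit.app M))) := by
  let N := KFlatLib.pb g M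
  let : Algebra R Γ(X, V) := φ.toAlgebra
  let : Algebra B Γ(X', U) := ψ.toAlgebra
  let : Algebra Γ(X, V) Γ(X', U) := (g.appLE V U h).hom.toAlgebra
  let : Algebra R Γ(X', U) := (ψ.comp (algebraMap R B)).toAlgebra
  have : IsScalarTower R B Γ(X', U) := IsScalarTower.of_algebraMap_eq fun _ => rfl
  have : IsScalarTower R Γ(X, V) Γ(X', U) := IsScalarTower.of_algebraMap_eq fun r => (hc r).symm
  have : Algebra.IsPushout R B Γ(X, V) Γ(X', U) :=
    (CommRingCat.isPushout_iff_isPushout (R := R) (S := Γ(X, V)) (R' := B) (S' := Γ(X', U))).mp hpo.flip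
  let : Module R Γ(M, V) := Module.compHom Γ(M, V) φ
  have : IsScalarTower R Γ(X, V) Γ(M, V) := IsScalarTower.of_algebraMap_smul fun _ _ => rfl
  let : Module Γ(X, V) Γ(N, U) := Module.compHom Γ(N, U) (g.appLE V U h).hom
  have : IsScalarTower Γ(X, V) Γ(X', U) Γ(N, U) := IsScalarTower.of_algebraMap_smul fun _ _ => rfl
  let Ψ : Γ(M, V) →ₗ[Γ(X, V)] Γ(N, U) :=
    { toFun := KFlatLib.puSecLE g M h
      map_add' := map_add _
      map_smul' := fun r m => KFlatLib.puSecLE_smul g M h r m }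
  have hbc := isBaseChange_puSec_lq g M hV hM hU h (fun _ => rfl) Ψ fun _ => rfl
  let e : B ⊗[R] Γ(M, V) ≃ₗ[B] Γ(X', U) ⊗[Γ(X, V)] Γ(M, V) :=
    (Algebra.IsPushout.cancelBaseChange R B Γ(X, V) Γ(X', U) Γ(M, V)).symm
  let f : B ⊗[R] Γ(M, V) → Γ(N, U) := fun x => hbc.equiv (e x)
  let σ₀ := secMap₀ (σ := algebraMap R B) g φ ψ h hc
    ((Scheme.Modules.pullbackPushforwardAdjunction g).unit.app M)
  suffices ∀ x : B ⊗[R] Γ(M, V), (extSL σ₀ x : Γ(N, U)) = f x from by
    change Function.Bijective fun x : B ⊗[R] Γ(M, V) => (extSL σ₀ x : Γ(N, U))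
    rw [funext this]
    exact hbc.equiv.bijective.comp e.bijective
  intro x
  induction x using TensorProduct.induction_on with
  | zero =>
    simp only [f, map_zero]
  | tmul b m =>
    refine (extSL_tmul σ₀ b m).trans ?_
    change _ = hbc.equiv ((Algebra.IsPushout.cancelBaseChange R B Γ(X, V) Γ(X', U) Γ(M, V)).symm (b ⊗ₜ m))
    rw [Algebra.IsPushout.cancelBaseChange_symm_tmul, IsBaseChange.equiv_tmul]
    rfl
  | add x y hx hy =>
    refine (map_add (extSL σ₀) x y).trans ?_
    simp only [f, map_add] at hx hy ⊢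
    exact congr_arg₂ (· + ·) hx hy

end Sections

section Tensor

open KFlatLib in
theorem tm_smul_left {T : TopCat.{u}} {R' : T.Presheaf CommRingCat.{u}} {P P' : PM R'} {U : Opens T}
    (c : R'.obj (op U)) (m : P.obj (op U)) (n : P'.obj (op U)) :
    tm P P' (c • m) n = c • tm P P' m n := (TensorProduct.smul_tmul' (R := R'.obj (op U)) c m n).symm

open KFlatLib in
theorem tm_smul_right {T : TopCat.{u}} {R' : T.Presheaf CommRingCat.{u}} {P P' : PM R'} {U : Opens T}
    (c : R'.obj (op U)) (m : P.obj (op U)) (n : P'.obj (op U)) :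
    tm P P' m (c • n) = c • tm P P' m n := TensorProduct.tmul_smul (R := R'.obj (op U)) c m n

open KFlatLib in
theorem tm_add_left {T : TopCat.{u}} {R' : T.Presheaf CommRingCat.{u}} {P P' : PM R'} {U : Opens T}
    (m m' : P.obj (op U)) (n : P'.obj (op U)) :
    tm P P' (m + m') n = tm P P' m n + tm P P' m' n := TensorProduct.add_tmul m m' n

open KFlatLib in
theorem tm_add_right {T : TopCat.{u}} {R' : T.Presheaf CommRingCat.{u}} {P P' : PM R'} {U : Opens T}
    (m : P.obj (op U)) (n n' : P'.obj (op U)) :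
    tm P P' m (n + n') = tm P P' m n + tm P P' m n' := TensorProduct.tmul_add m n n'

variable (M N : X.Modules) (U : X.Opens)

theorem shTm_add_left (m m' : Γ(M, U)) (n : Γ(N, U)) : shTm (m + m') n = shTm m n + shTm m' n :=
  (congrArg (KFlatLib.shApp M N U) (tm_add_left (T := X.toTopCat) (R' := X.presheaf)
    (P := (DCoh.toP.obj M : KFlatLib.PM X.presheaf)) (P' := (DCoh.toP.obj N : KFlatLib.PM X.presheaf)) m m' n)).trans (KFlatLib.shApp_add _ _ _ _ _)

theorem shTm_add_right (m : Γ(M, U)) (n n' : Γ(N, U)) : shTm m (n + n') = shTm m n + shTm m n' :=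
  (congrArg (KFlatLib.shApp M N U) (tm_add_right (T := X.toTopCat) (R' := X.presheaf)
    (P := (DCoh.toP.obj M : KFlatLib.PM X.presheaf)) (P' := (DCoh.toP.obj N : KFlatLib.PM X.presheaf)) m n n')).trans (KFlatLib.shApp_add _ _ _ _ _)

theorem shTm_smul_left (c : Γ(X, U)) (m : Γ(M, U)) (n : Γ(N, U)) :
    shTm (c • m) n = c • shTm m n :=
  (congrArg (KFlatLib.shApp M N U) (tm_smul_left (T := X.toTopCat) (R' := X.presheaf)
    (P := (DCoh.toP.obj M : KFlatLib.PM X.presheaf)) (P' := (DCoh.toP.obj N : KFlatLib.PM X.presheaf)) c m n)).trans (KFlatLib.shApp_smul _ _ _ c _)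

theorem shTm_smul_right (c : Γ(X, U)) (m : Γ(M, U)) (n : Γ(N, U)) :
    shTm m (c • n) = c • shTm m n :=
  (congrArg (KFlatLib.shApp M N U) (tm_smul_right (T := X.toTopCat) (R' := X.presheaf)
    (P := (DCoh.toP.obj M : KFlatLib.PM X.presheaf)) (P' := (DCoh.toP.obj N : KFlatLib.PM X.presheaf)) c m n)).trans (KFlatLib.shApp_smul _ _ _ c _)

/-- `Γ(M, U) ⊗ Γ(N, U) → Γ(M ⊗ N, U)`. -/
noncomputable def shLin : Γ(M, U) ⊗[Γ(X, U)] Γ(N, U) →ₗ[Γ(X, U)] Γ(tens M N, U) :=
  TensorProduct.lift (LinearMap.mk₂ Γ(X, U) (fun m n => shTm m n) (shTm_add_left M N U)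
    (shTm_smul_left M N U) (shTm_add_right M N U) (shTm_smul_right M N U))

theorem shLin_tmul (m : Γ(M, U)) (n : Γ(N, U)) : shLin M N U (m ⊗ₜ n) = shTm m n := rfl

theorem bijective_shLin (hU : IsAffineOpen U) (hM : LQ M U) (hN : LQ N U) :
    Function.Bijective (shLin M N U) := by
  classical
  refine bijective_of_local_loc _ fun P hP => ?_
  let x := hU.fromSpec (⟨P, hP.isPrime⟩ : PrimeSpectrum Γ(X, U))
  have hx : x ∈ U := hU.range_fromSpec.le (Set.mem_range_self (⟨P, hP.isPrime⟩ : PrimeSpectrum Γ(X, U)))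
  have hprime : hU.primeIdealOf ⟨x, hx⟩ = ⟨P, hP.isPrime⟩ :=
    hU.fromSpec.isOpenEmbedding.injective (hU.fromSpec_primeIdealOf _)
  let O := X.presheaf.stalk x
  let : Algebra Γ(X, U) O := (X.presheaf.germ U x hx).hom.toAlgebra
  let := Module.compHom (M.presheaf.stalk x) (X.presheaf.germ U x hx).hom
  let := Module.compHom (N.presheaf.stalk x) (X.presheaf.germ U x hx).hom
  let := Module.compHom ((tens M N).presheaf.stalk x) (X.presheaf.germ U x hx).hom
  have : IsScalarTower Γ(X, U) O (M.presheaf.stalk x) := IsScalarTower.of_algebraMap_smul fun _ _ => rfl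
  have : IsScalarTower Γ(X, U) O (N.presheaf.stalk x) := IsScalarTower.of_algebraMap_smul fun _ _ => rfl
  have : IsScalarTower Γ(X, U) O ((tens M N).presheaf.stalk x) :=
    IsScalarTower.of_algebraMap_smul fun _ _ => rfl
  have hloc : IsLocalization P.primeCompl O := by
    have := hU.isLocalization_stalk ⟨x, hx⟩
    simp only [hprime] at this
    exact this
  have h1 := isLocalizedModule_germLin_lq M hU hM hx
  have h2 := isLocalizedModule_germLin_lq N hU hN hx
  have h3 := isLocalizedModule_germLin_lq (tens M N) hU (lq_tens hU hM hN) hx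
  simp only [hprime] at h1 h2 h3
  refine ⟨hP.isPrime, (tens M N).presheaf.stalk x, inferInstance, inferInstance,
    FlatLib.germLin (tens M N) hx, h3, ?_⟩
  let st := LinearEquiv.ofBijective (KFlatLib.stalkTensorLin M N x)
    (KFlatLib.stalkTensorLin_bijective M N x)
  let e : M.presheaf.stalk x ⊗[Γ(X, U)] N.presheaf.stalk x ≃ₗ[Γ(X, U)]
      (tens M N).presheaf.stalk x :=
    (IsLocalization.moduleTensorEquiv P.primeCompl O (M.presheaf.stalk x)
        (N.presheaf.stalk x)).symm.restrictScalars Γ(X, U) ≪≫ₗ st.restrictScalars Γ(X, U)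
  have key : (FlatLib.germLin (tens M N) hx).comp (shLin M N U) =
      e.toLinearMap.comp (TensorProduct.map (FlatLib.germLin M hx) (FlatLib.germLin N hx)) := by
    refine TensorProduct.ext' fun m n => ?_
    exact (KFlatLib.stalkTensorLin_germ M N x hx m n).symm
  rw [key]
  exact IsLocalizedModule.of_linearEquiv P.primeCompl
    (TensorProduct.map (FlatLib.germLin M hx) (FlatLib.germLin N hx)) e

end Tensor

end DerBCLib
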