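import Groth.Agent.DerBCLib.Main
import Groth.Agent.RelPCSchLib.Flat
import Groth.Agent.KFlatLib.QCohLpull

/-!
# Local models: flat twists, flat base change, tor-independent base change
-/

set_option autoImplicit false
set_option backward.isDefEq.respectTransparency false
set_option backward.isDefEq.respectTransparency.types false
set_option maxHeartbeats 1000000
set_option linter.style.haveILetI false

universe u

open CategoryTheory CategoryTheory.Limits AlgebraicGeometry HomologicalComplex Opposite MonoidalCategory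
open Groth.Agent Groth.Agent.DerLib Groth.Agent.PerfDualLib Groth.Agent.ProjFormLib
open RpushLib (secFun resφ)
open KFlatLib (tensorModCx)

attribute [local instance] HasDerivedCategory.standard

namespace DerBCLib

variable {X S X' S' : Scheme.{u}} {f : X ⟶ S} {g : S' ⟶ S} {g' : X' ⟶ X}

/-- A K-flat complex twisted by a module flat over the base. -/
theorem hasLocModel_tensorMod {T : Cx X} (hT : DCoh.IsKFlat T)
    (hTq : DCoh.IsQCohD (DerivedCategory.Q.obj T)) {G : X.Modules} (hG : Coh.IsQCoh G)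
    (hflat : FlatMod.IsFlatOver f G) : HasLocModel f g g' ((tensorModCx G).obj T) := by
  intro US hUS UT hUT hg V hV hVW
  letI := (g.appLE US UT hg).hom.toAlgebra
  haveI := hG
  obtain ⟨P, W₀, m, c, hP, hW₀, hm, hc⟩ := exists_chart hV T hTq
  have k₀ : KFOn V W₀ := kfOn_of_isKFlat V hW₀
  have k₁ : KFOn V T := kfOn_of_isKFlat V hT
  have k₂ := kfOn_chC hV hP
  refine ⟨(tensorModCx G).obj ((chC hV).obj P), (tensorModCx G).obj W₀, (tensorModCx G).map m,
    (tensorModCx G).map c, fun n => lq_tens hV (lq_chF hV _) (lq_of_qcoh hV G), ?_,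
    qisOn_tensorMod k₀ k₁ hm G, qisOn_tensorMod k₀ k₂ hc G,
    qisOn_pull_tensorMod g' k₀ k₁ hm G, qisOn_pull_tensorMod g' k₀ k₂ hc G⟩
  let φ : Γ(S, US) →+* Γ(X, V) := (f.appLE US V hVW).hom
  let Q := projectiveResolution (Bm (R := Γ(S, US)) Γ(S', UT))
  haveI : Module.Flat Γ(S, US)
      ((ModuleCat.restrictScalars φ).obj ((secFun V (RingHom.id Γ(X, V))).obj G)) :=
    RelPCSchLib.flat_sections f G hflat hV hUS hVW
  exact bGood_id_chC_tens φ hV (lq_of_qcoh hV G) Q (quasiIso_tensorLeft_flat Q.π') hP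

/-- A K-flat complex, for a flat base change. -/
theorem hasLocModel_flat [Flat g] {T : Cx X} (hT : DCoh.IsKFlat T)
    (hTq : DCoh.IsQCohD (DerivedCategory.Q.obj T)) : HasLocModel f g g' T := by
  intro US hUS UT hUT hg V hV hVW
  letI := (g.appLE US UT hg).hom.toAlgebra
  obtain ⟨P, W₀, m, c, hP, hW₀, hm, hc⟩ := exists_chart hV T hTq
  have k₀ : KFOn V W₀ := kfOn_of_isKFlat V hW₀
  haveI : Module.Flat Γ(S, US) Γ(S', UT) := by
    have h := HasRingHomProperty.appLE (P := @Flat) g ‹Flat g› ⟨US, hUS⟩ ⟨UT, hUT⟩ hg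
    exact (RingHom.flat_algebraMap_iff).mp h
  exact ⟨(chC hV).obj P, W₀, m, c, fun n => lq_chF hV _, bGood_id_of_flat _, hm, hc,
    qisOn_pull_kf g' k₀ (kfOn_of_isKFlat V hT) hm, qisOn_pull_kf g' k₀ (kfOn_chC hV hP) hc⟩

/-- A K-flat complex, for a tor-independent base change. -/
theorem hasLocModel_tor {T : Cx X} (hT : DCoh.IsKFlat T)
    (hTq : DCoh.IsQCohD (DerivedCategory.Q.obj T))
    (htor : ∀ (U : S.Opens), IsAffineOpen U → ∀ (U' : S'.Opens), IsAffineOpen U' →
      ∀ (hU' : U' ≤ g ⁻¹ᵁ U) (V : X.Opens), IsAffineOpen V → ∀ (hV : V ≤ f ⁻¹ᵁ U) (i : ℕ), 0 < i →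
        Subsingleton (@DRing.Tor Γ(S, U) _ i Γ(S', U') Γ(X, V) _ (g.appLE U U' hU').hom.toModule _
          (f.appLE U V hV).hom.toModule)) : HasLocModel f g g' T := by
  intro US hUS UT hUT hg V hV hVW
  letI := (g.appLE US UT hg).hom.toAlgebra
  obtain ⟨P, W₀, m, c, hP, hW₀, hm, hc⟩ := exists_chart hV T hTq
  have k₀ : KFOn V W₀ := kfOn_of_isKFlat V hW₀
  refine ⟨(chC hV).obj P, W₀, m, c, fun n => lq_chF hV _, ?_, hm, hc,
    qisOn_pull_kf g' k₀ (kfOn_of_isKFlat V hT) hm, qisOn_pull_kf g' k₀ (kfOn_chC hV hP) hc⟩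
  let φ : Γ(S, US) →+* Γ(X, V) := (f.appLE US V hVW).hom
  let Q := projectiveResolution (Bm (R := Γ(S, US)) Γ(S', UT))
  exact bGood_id_chC φ hV Q (quasiIso_tensorLeft_of_tor
    (N := (ModuleCat.restrictScalars φ).obj (𝟙_ (ModuleCat.{u} Γ(X, V)))) Q
    fun q => htor US hUS UT hUT hg V hV hVW (q + 1) (Nat.succ_pos q)) hP

/-- Twists by quasi-coherent modules keep quasi-coherent cohomology. -/
theorem isQCohD_tensorMod {T : Cx X} (hT : DCoh.IsKFlat T)
    (hTq : DCoh.IsQCohD (DerivedCategory.Q.obj T)) (G : X.Modules) [Coh.IsQCoh G] :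
    DCoh.IsQCohD (DerivedCategory.Q.obj ((tensorModCx G).obj T)) := by
  refine isQCohD_of_homology _ fun i => ?_
  refine QCohLib.isQCoh_of_cover _ (fun U : X.affineOpens => U.1) QCohLib.iSup_affineOpens_val
    fun U => ?_
  obtain ⟨V, hV⟩ := U
  obtain ⟨P, W₀, m, c, hP, hW₀, hm, hc⟩ := exists_chart hV T hTq
  have k₀ : KFOn V W₀ := kfOn_of_isKFlat V hW₀
  let Z := (tensorModCx G).obj T
  let W := (tensorModCx G).obj W₀
  let C := (tensorModCx G).obj ((chC hV).obj P)
  have hq : ∀ {K L : Cx X} (e : K ⟶ L), QisOn V e → QuasiIso ((resJ V.ι).map e) := fun e he =>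
    (quasiIso_resJ_iff V.ι e).2 fun y => he _ y.2
  haveI := hq ((tensorModCx G).map m) (qisOn_tensorMod k₀ (kfOn_of_isKFlat V hT) hm G)
  haveI := hq ((tensorModCx G).map c) (qisOn_tensorMod k₀ (kfOn_chC hV hP) hc G)
  have hCq : Coh.IsQCoh (((resJ V.ι).obj C).homology i) :=
    KFlatLib.isQCoh_homology_of_terms _ (fun n => QCohLib.isQCoh_restrict_ι_of_fromSpec hV _
      ((lq_iff hV _).1 (lq_tens hV (lq_chF hV _) (lq_of_qcoh hV G)))) i
  exact @QCohLib.isQCoh_of_iso _ _ _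
    ((isoOfQuasiIsoAt ((resJ V.ι).map ((tensorModCx G).map c)) i).symm ≪≫
      isoOfQuasiIsoAt ((resJ V.ι).map ((tensorModCx G).map m)) i ≪≫
      (((tensorModCx G).obj T).sc i).mapHomologyIso (Scheme.Modules.restrictFunctor V.ι)) hCq

end DerBCLib
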