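import Groth.Agent.DerBCLib.Alg
import Groth.Agent.KFlatLib.RingBaseChange
import Groth.Agent.DRingLib.TorBalance

/-!
# Base change acyclic complexes of modules

Let `φ : R → A` be a ring map, `G` an `A`-module with `Tor_i^R(B, G) = 0` for `i > 0`, and `P` a K-flat
complex of `A`-modules. Then `B ⊗_R -` of the complex `P ⊗_A G` of `R`-modules computes the derived
tensor product.
-/

set_option autoImplicit false
set_option backward.isDefEq.respectTransparency false
set_option maxHeartbeats 1000000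
set_option linter.style.haveILetI false

universe u

open CategoryTheory CategoryTheory.Limits HomologicalComplex MonoidalCategory
open KFlatLib (tT tMap ιT projHom)
open Groth.Agent

namespace DerBCLib

variable {R : Type u} [CommRing R]

/-- `B` in degree zero. -/
noncomputable abbrev B₀ (B : Type u) [CommRing B] [Algebra R B] :
    CochainComplex (ModuleCat.{u} R) ℤ :=
  (CochainComplex.singleFunctor (ModuleCat.{u} R) 0).obj (Bm (R := R) B)

variable {B : Type u} [CommRing B] [Algebra R B]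

theorem isZero_B₀ (p : ℤ) (hp : p ≠ 0) : IsZero ((B₀ (R := R) B).X p) :=
  isZero_single_obj_X (ComplexShape.up ℤ) 0 _ p hp

/-- `B ⊗ K ⟶ B[0] ⊗ K`, degreewise. -/
noncomputable def singleTX (K : CochainComplex (ModuleCat.{u} R) ℤ) (n : ℤ) :
    ((tB B).obj K).X n ⟶ (tT (B₀ (R := R) B) K).X n :=
  (singleObjXSelf (ComplexShape.up ℤ) 0 (Bm (R := R) B)).inv ▷ K.X n ≫
    ιT (B₀ (R := R) B) K 0 n n (zero_add n)

/-- `B ⊗ K ⟶ B[0] ⊗ K`. -/
noncomputable def singleT (K : CochainComplex (ModuleCat.{u} R) ℤ) :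
    (tB B).obj K ⟶ tT (B₀ (R := R) B) K where
  f := singleTX K
  comm' := by
    rintro n n' hn
    obtain rfl : n + 1 = n' := hn
    have hd : (B₀ (R := R) B).d 0 (0 + 1) = 0 := (isZero_B₀ _ (by omega)).eq_of_tgt _ _
    have h := KFlatLib.ιT_d (B₀ (R := R) B) K 0 n n (n + 1) (zero_add n) rfl
    rw [hd, MonoidalPreadditive.zero_whiskerRight, zero_comp, zero_add, Int.negOnePow_zero,
      one_smul] at h
    change ((singleObjXSelf (ComplexShape.up ℤ) 0 _).inv ▷ K.X n ≫ _) ≫
        (tT (B₀ (R := R) B) K).d n (n + 1) =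
      (Bm B ◁ K.d n (n + 1)) ≫ (singleObjXSelf (ComplexShape.up ℤ) 0 _).inv ▷ K.X (n + 1) ≫ _
    rw [Category.assoc, whisker_exchange_assoc]
    exact congrArg _ h

instance isIso_singleT (K : CochainComplex (ModuleCat.{u} R) ℤ) : IsIso (singleT (B := B) K) := by
  haveI : ∀ n, IsIso ((singleT (B := B) K).f n) := fun n => by
    let j := ιT (B₀ (R := R) B) K 0 n n (zero_add n)
    have h₁ : j ≫ KFlatLib.proj 0 n n (zero_add n) = 𝟙 _ := KFlatLib.ιT_proj _ _ _ _
    haveI : IsIso j := ⟨KFlatLib.proj 0 n n (zero_add n), h₁, by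
      refine mapBifunctor.hom_ext fun p q h => ?_
      by_cases hp : p = 0
      · subst hp
        obtain rfl : q = n := by
          have : (0 : ℤ) + q = n := h
          omega
        rw [← Category.assoc]
        exact (congrArg (· ≫ j) (KFlatLib.ιT_proj _ _ _ _)).trans
          ((Category.id_comp _).trans (Category.comp_id _).symm)
      · exact ((tensorRight (K.X q)).map_isZero (isZero_B₀ p hp)).eq_of_src _ _⟩
    change IsIso ((singleObjXSelf (ComplexShape.up ℤ) 0 _).inv ▷ K.X n ≫ j)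
    infer_instance
  exact HomologicalComplex.Hom.isIso_of_components _

theorem singleT_natural {K L : CochainComplex (ModuleCat.{u} R) ℤ} (g : K ⟶ L) :
    (tB B).map g ≫ singleT L = singleT K ≫ tMap (𝟙 (B₀ (R := R) B)) g := by
  ext n : 1
  change (Bm B ◁ g.f n) ≫ (singleObjXSelf (ComplexShape.up ℤ) 0 _).inv ▷ L.X n ≫ _ =
    ((singleObjXSelf (ComplexShape.up ℤ) 0 _).inv ▷ K.X n ≫ _) ≫ (tMap (𝟙 (B₀ (R := R) B)) g).f n
  rw [whisker_exchange_assoc, Category.assoc, KFlatLib.ιT_tMap]
  congr 1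

/-- If a resolution of `B` computes `B ⊗ N`, then `N` is acyclic for `B ⊗ -`. -/
theorem bGood_id_of_qis (Q : ProjectiveResolution (Bm (R := R) B))
    (N : CochainComplex (ModuleCat.{u} R) ℤ) (h : QuasiIso (tMap Q.π' (𝟙 N))) :
    BGood (𝟙 ((tB B).obj N)) := by
  let p := (DRingLib.resψ R).app N
  haveI := DRingLib.quasiIso_resψ N
  haveI : QuasiIso (tMap Q.π' (𝟙 ((DRingLib.resP R).obj N))) :=
    KFlatLib.quasiIso_tMap_right (DRingLib.good_resP N).1 Q.π'
  haveI : QuasiIso (tMap (𝟙 Q.cochainComplex) p) :=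
    KFlatLib.quasiIso_tMap_left (DRingLib.isKFlat_projectiveResolution Q) p
  have w : tMap Q.π' (𝟙 ((DRingLib.resP R).obj N)) ≫ tMap (𝟙 (B₀ (R := R) B)) p =
      tMap (𝟙 Q.cochainComplex) p ≫ tMap Q.π' (𝟙 N) :=
    (((curriedTensor (ModuleCat.{u} R)).map₂CochainComplex.map Q.π').naturality p).symm
  haveI : QuasiIso (tMap Q.π' (𝟙 ((DRingLib.resP R).obj N)) ≫ tMap (𝟙 (B₀ (R := R) B)) p) := by
    rw [w]; exact quasiIso_comp _ _
  haveI : QuasiIso (tMap (𝟙 (B₀ (R := R) B)) p) :=
    quasiIso_of_comp_left (tMap Q.π' (𝟙 ((DRingLib.resP R).obj N))) _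
  haveI : QuasiIso ((tB B).map p ≫ singleT N) := by
    refine Eq.mpr (congrArg (fun k => QuasiIso k) (singleT_natural p)) ?_
    exact quasiIso_comp _ _
  change QuasiIso ((tB B).map p ≫ 𝟙 _)
  rw [Category.comp_id]
  exact quasiIso_of_comp_right _ (singleT N)

section Model

variable {A : Type u} [CommRing A] (φ : R →+* A) (G : ModuleCat.{u} A)

/-- `q ↦ G ⊗_A (A ⊗_R q)`. -/
noncomputable abbrev extG : ModuleCat.{u} R ⥤ ModuleCat.{u} A :=
  ModuleCat.extendScalars.{u, u, u} φ ⋙ tensorLeft G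

/-- `p ↦ p ⊗_A G`, as modules over `R`. -/
noncomputable abbrev tensG : ModuleCat.{u} A ⥤ ModuleCat.{u} R :=
  tensorRight G ⋙ ModuleCat.restrictScalars φ

/-- `(q, p) ↦ (G ⊗_A (A ⊗_R q)) ⊗_A p`. -/
noncomputable abbrev extG₂ : ModuleCat.{u} R ⥤ ModuleCat.{u} A ⥤ ModuleCat.{u} A :=
  extG φ G ⋙ curriedTensor (ModuleCat.{u} A)

instance preservesZero_extG₂_obj (q : ModuleCat.{u} R) :
    ((extG₂ φ G).obj q).PreservesZeroMorphisms :=
  inferInstanceAs ((curriedTensor (ModuleCat.{u} A)).obj ((extG φ G).obj q)).PreservesZeroMorphisms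

/-- `G`-twisted associativity. -/
noncomputable abbrev assocG (p : ModuleCat.{u} A) (x : ModuleCat.{u} A) : (p ⊗ G) ⊗ x ≅ (G ⊗ x) ⊗ p :=
  α_ p G x ≪≫ β_ p (G ⊗ x)

/-- The comparison `q ⊗_R (p ⊗_A G) ≅ (G ⊗_A (A ⊗_R q)) ⊗_A p`. -/
noncomputable def cmpG (q : ModuleCat.{u} R) (p : ModuleCat.{u} A) :
    q ⊗ (tensG φ G).obj p ≅ (ModuleCat.restrictScalars φ).obj (((extG₂ φ G).obj q).obj p) :=
  β_ q _ ≪≫ asIso (projHom φ (p ⊗ G) q) ≪≫
    (ModuleCat.restrictScalars φ).mapIso (assocG G p _)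

theorem cmpG_natural_left {q q' : ModuleCat.{u} R} (f : q ⟶ q') (p : ModuleCat.{u} A) :
    f ▷ (tensG φ G).obj p ≫ (cmpG φ G q' p).hom =
      (cmpG φ G q p).hom ≫ (ModuleCat.restrictScalars φ).map (((extG₂ φ G).map f).app p) := by
  simp only [cmpG, Iso.trans_hom, asIso_hom, Functor.mapIso_hom, Category.assoc]
  rw [BraidedCategory.braiding_naturality_left_assoc]
  refine congrArg (_ ≫ ·) (((reassoc_of% (KFlatLib.projHom_natural_right φ (p ⊗ G) f)) _).trans ?_)
  rw [← Functor.map_comp, ← Functor.map_comp]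
  congr 2
  simp only [assocG, Iso.trans_hom, Category.assoc]
  change _ = _ ≫ _ ≫ (G ◁ (ModuleCat.extendScalars.{u, u, u} φ).map f) ▷ p
  rw [← BraidedCategory.braiding_naturality_right, associator_naturality_right_assoc]

theorem cmpG_natural_right (q : ModuleCat.{u} R) {p p' : ModuleCat.{u} A} (g : p ⟶ p') :
    q ◁ (tensG φ G).map g ≫ (cmpG φ G q p').hom =
      (cmpG φ G q p).hom ≫ (ModuleCat.restrictScalars φ).map (((extG₂ φ G).obj q).map g) := by
  simp only [cmpG, Iso.trans_hom, asIso_hom, Functor.mapIso_hom, Category.assoc]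
  rw [BraidedCategory.braiding_naturality_right_assoc]
  change _ ≫ (ModuleCat.restrictScalars φ).map (g ▷ G) ▷ q ≫ _ = _
  rw [reassoc_of% (KFlatLib.projHom_natural_left φ (g ▷ G) q), ← Functor.map_comp, ← Functor.map_comp]
  congr 3
  simp only [assocG, Iso.trans_hom, Category.assoc]
  change _ = _ ≫ _ ≫ (G ⊗ (ModuleCat.extendScalars.{u, u, u} φ).obj q) ◁ g
  rw [← BraidedCategory.braiding_naturality_left, associator_naturality_left_assoc]

/-- `rs (G ⊗_A (A ⊗_R -)) ≅ rs G ⊗_R -`. -/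
noncomputable def extGIso :
    extG φ G ⋙ ModuleCat.restrictScalars φ ≅ tensorLeft ((ModuleCat.restrictScalars φ).obj G) :=
  NatIso.ofComponents (fun q => (asIso (projHom φ G q)).symm) fun {q q'} g => by
    rw [Iso.symm_hom, Iso.symm_hom, asIso_inv, asIso_inv, IsIso.eq_inv_comp, ← Category.assoc,
      IsIso.comp_inv_eq]
    exact (KFlatLib.projHom_natural_right φ G g).symm

/-- The resolution of `B` computes `B ⊗ (P ⊗_A G)` for K-flat `P`. -/
theorem quasiIso_tMap_tensG (Q : ProjectiveResolution (Bm (R := R) B))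
    (hG : QuasiIso (((tensorLeft ((ModuleCat.restrictScalars φ).obj G)).mapHomologicalComplex
      (ComplexShape.up ℤ)).map Q.π'))
    {P : CochainComplex (ModuleCat.{u} A) ℤ} (hP : DRing.IsKFlat A P) :
    QuasiIso (tMap Q.π' (𝟙 (((tensG φ G).mapHomologicalComplex (ComplexShape.up ℤ)).obj P))) := by
  let EQ := ((extG φ G).mapHomologicalComplex (ComplexShape.up ℤ)).map Q.π'
  haveI hEQ : QuasiIso EQ := by
    refine (quasiIso_map_iff_of_preservesHomology EQ (ModuleCat.restrictScalars φ)).1 ?_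
    let η := NatIso.mapHomologicalComplex (extGIso φ G) (ComplexShape.up ℤ)
    haveI := hG
    have w := η.hom.naturality Q.π'
    haveI : QuasiIso ((((extG φ G ⋙ ModuleCat.restrictScalars φ).mapHomologicalComplex
        (ComplexShape.up ℤ)).map Q.π') ≫ η.hom.app _) := by
      rw [w]; exact quasiIso_comp _ _
    exact quasiIso_of_comp_right (((extG φ G ⋙ ModuleCat.restrictScalars φ).mapHomologicalComplex
      (ComplexShape.up ℤ)).map Q.π') (η.hom.app _)
  haveI : QuasiIso (tMap EQ (𝟙 P)) := KFlatLib.quasiIso_tMap_right hP EQ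
  let m := mapBifunctorMap Q.π' (𝟙 P) (extG₂ φ G) (ComplexShape.up ℤ)
  haveI : QuasiIso m := by
    have h2 := KFlatLib.totalMapIso_natural (extG₂ φ G) (curriedTensor (ModuleCat.{u} A)) (extG φ G)
      (𝟭 _) (𝟭 _) (fun _ _ => Iso.refl _)
      (fun _ _ => (Category.comp_id _).trans (Category.id_comp _).symm)
      (fun _ {_ _} _ => (Category.comp_id _).trans (Category.id_comp _).symm) Q.π' (𝟙 P)
    haveI : QuasiIso (mapBifunctorMap EQ
        (((𝟭 (ModuleCat.{u} A)).mapHomologicalComplex (ComplexShape.up ℤ)).map (𝟙 P))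
        (curriedTensor (ModuleCat.{u} A)) (ComplexShape.up ℤ)) := by
      rw [CategoryTheory.Functor.map_id]; assumption
    let e₂ := fun K => KFlatLib.totalMapIso (extG₂ φ G) (curriedTensor (ModuleCat.{u} A)) (extG φ G)
      (𝟭 _) (𝟭 _) (fun _ _ => Iso.refl _)
      (fun _ _ => (Category.comp_id _).trans (Category.id_comp _).symm)
      (fun _ {_ _} _ => (Category.comp_id _).trans (Category.id_comp _).symm) K P
    haveI : QuasiIso ((e₂ Q.cochainComplex).hom ≫
        ((𝟭 (ModuleCat.{u} A)).mapHomologicalComplex (ComplexShape.up ℤ)).map m) := by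
      refine Eq.mpr (congrArg (fun k => QuasiIso k) h2.symm) ?_
      exact quasiIso_comp _ _
    exact (quasiIso_map_iff_of_preservesHomology m (𝟭 (ModuleCat.{u} A))).1
      (quasiIso_of_comp_left (e₂ Q.cochainComplex).hom _)
  have h1 := KFlatLib.totalMapIso_natural (extG₂ φ G) (curriedTensor (ModuleCat.{u} R)) (𝟭 _)
    (tensG φ G) (ModuleCat.restrictScalars φ) (fun a b => cmpG φ G a b)
    (fun f b => cmpG_natural_left φ G f b) (fun a {_ _} g => cmpG_natural_right φ G a g) Q.π' (𝟙 P)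
  rw [CategoryTheory.Functor.map_id] at h1
  let e := KFlatLib.totalMapIso (extG₂ φ G) (curriedTensor (ModuleCat.{u} R)) (𝟭 _) (tensG φ G)
    (ModuleCat.restrictScalars φ) (fun a b => cmpG φ G a b)
    (fun f b => cmpG_natural_left φ G f b) (fun a {_ _} g => cmpG_natural_right φ G a g)
  haveI : QuasiIso (((ModuleCat.restrictScalars φ).mapHomologicalComplex (ComplexShape.up ℤ)).map m) :=
    (quasiIso_map_iff_of_preservesHomology m (ModuleCat.restrictScalars φ)).2 inferInstance
  haveI : QuasiIso (tMap Q.π' (𝟙 (((tensG φ G).mapHomologicalComplex (ComplexShape.up ℤ)).obj P)) ≫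
      (e (B₀ (R := R) B) P).hom) := by
    refine Eq.mpr (congrArg (fun k => QuasiIso k) h1) ?_
    exact quasiIso_comp _ _
  exact quasiIso_of_comp_right _ (e (B₀ (R := R) B) P).hom

/-- The local model is base change acyclic. -/
theorem bGood_id_tensG (Q : ProjectiveResolution (Bm (R := R) B))
    (hG : QuasiIso (((tensorLeft ((ModuleCat.restrictScalars φ).obj G)).mapHomologicalComplex
      (ComplexShape.up ℤ)).map Q.π'))
    {P : CochainComplex (ModuleCat.{u} A) ℤ} (hP : DRing.IsKFlat A P) :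
    BGood (𝟙 ((tB B).obj (((tensG φ G).mapHomologicalComplex (ComplexShape.up ℤ)).obj P))) :=
  bGood_id_of_qis Q _ (quasiIso_tMap_tensG φ G Q hG hP)

end Model

section Hyp

variable {N : ModuleCat.{u} R}

theorem isZero_homology_of_X (K : CochainComplex (ModuleCat.{u} R) ℤ) (i : ℤ) (h : IsZero (K.X i)) :
    IsZero (K.homology i) :=
  (exactAt_iff_isZero_homology _ _).1 (ShortComplex.exact_of_isZero_X₂ _ h)

/-- Tensoring with a flat module preserves quasi-isomorphisms. -/
theorem quasiIso_tensorLeft_flat [Module.Flat R N] {K L : CochainComplex (ModuleCat.{u} R) ℤ}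
    (g : K ⟶ L) [QuasiIso g] :
    QuasiIso (((tensorLeft N).mapHomologicalComplex (ComplexShape.up ℤ)).map g) := by
  refine KFlatLib.quasiIso_map_of_cone _ g fun i => ?_
  rw [KFlatLib.isZero_homology_iff_exists _ (i - 1) i (i + 1) (by omega) rfl]
  have he : Function.Exact ((CochainComplex.mappingCone g).d (i - 1) i).hom
      ((CochainComplex.mappingCone g).d i (i + 1)).hom := fun z =>
    ⟨fun hz => by
      obtain ⟨y, hy⟩ := (KFlatLib.isZero_homology_iff_exists _ (i - 1) i (i + 1) (by omega) rfl).1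
        ((KFlatLib.acyclic_cone_iff g).2 inferInstance i) z hz
      exact ⟨y, hy⟩, fun ⟨y, hy⟩ => by
      rw [← hy]
      exact congr($((CochainComplex.mappingCone g).d_comp_d (i - 1) i (i + 1)).hom y)⟩
  exact fun z hz => (Module.Flat.lTensor_exact N he z).1 hz

/-- Vanishing of `Tor` makes the resolution of `B` compute `N ⊗ B`. -/
theorem quasiIso_tensorLeft_of_tor (Q : ProjectiveResolution (Bm (R := R) B))
    (h : ∀ q : ℕ, Subsingleton (DRing.Tor R (q + 1) B N)) :
    QuasiIso (((tensorLeft N).mapHomologicalComplex (ComplexShape.up ℤ)).map Q.π') := by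
  let F := (tensorLeft N).mapHomologicalComplex (ComplexShape.up ℤ)
  refine ⟨fun i => ?_⟩
  rcases lt_trichotomy i 0 with hi | rfl | hi
  · obtain ⟨q, rfl⟩ : ∃ q : ℕ, i = -((q + 1 : ℕ) : ℤ) := ⟨(-i - 1).toNat, by omega⟩
    have h1 := (DRingLib.subsingleton_tor_iff (Bm (R := R) B) N Q q).1 (h q)
    rw [quasiIsoAt_iff_isIso_homologyMap]
    refine IsZero.isIso (h1.of_iso ((HomologicalComplex.homologyFunctor _ _ _).mapIso
      ((NatIso.mapHomologicalComplex (BraidedCategory.tensorLeftIsoTensorRight N)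
        (ComplexShape.up ℤ)).app Q.cochainComplex))) ?_ _
    exact isZero_homology_of_X _ _ ((tensorLeft N).map_isZero (isZero_B₀ _ (by omega)))
  · have hs : ∀ (n : ℤ), n ≠ 0 → IsZero ((B₀ (R := R) B).X n) := isZero_B₀
    have h1 : Q.cochainComplex.d 0 1 = 0 :=
      (CochainComplex.isZero_of_isStrictlyLE Q.cochainComplex 0 1 (by omega)).eq_of_tgt _ _
    have h0 : QuasiIsoAt Q.π' 0 := inferInstance
    rw [quasiIsoAt_iff' Q.π' (-1) 0 1 (by simp) (by simp),
      ShortComplex.quasiIso_iff_of_zeros' _ h1 ((hs (-1) (by omega)).eq_of_src _ _)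
        ((hs 1 (by omega)).eq_of_tgt _ _)] at h0
    obtain ⟨hex, hepi⟩ := h0
    rw [quasiIsoAt_iff' _ (-1) 0 1 (by simp) (by simp),
      ShortComplex.quasiIso_iff_of_zeros' _
        (show (tensorLeft N).map (Q.cochainComplex.d 0 1) = 0 by rw [h1, Functor.map_zero])
        (((tensorLeft N).map_isZero (hs (-1) (by omega))).eq_of_src _ _)
        (((tensorLeft N).map_isZero (hs 1 (by omega))).eq_of_tgt _ _)]
    have hsur : Function.Surjective (Q.π'.f 0).hom := (ModuleCat.epi_iff_surjective _).1 hepi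
    refine ⟨?_, (ModuleCat.epi_iff_surjective _).2 (LinearMap.lTensor_surjective N hsur)⟩
    rw [ShortComplex.ShortExact.moduleCat_exact_iff_function_exact] at hex ⊢
    exact lTensor_exact N hex hsur
  · rw [quasiIsoAt_iff_isIso_homologyMap]
    exact IsZero.isIso (isZero_homology_of_X _ _
      ((tensorLeft N).map_isZero (CochainComplex.isZero_of_isStrictlyLE Q.cochainComplex 0 i hi)))
      (isZero_homology_of_X _ _ ((tensorLeft N).map_isZero (isZero_B₀ _ (by omega)))) _

end Hyp

end DerBCLib
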