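import Groth.Agent.DerBCLib.Model
import Groth.Agent.DerBCLib.TorAcy
import Groth.Agent.KFlatLib.TildeKFlat
import Groth.Agent.KFlatLib.DerivedTensor

/-!
# Charts for complexes with quasi-coherent cohomology

On an affine open `V`, a K-flat complex with quasi-coherent cohomology is compared with a complex whose
terms are quasi-coherent on `V`, K-flat there, and with K-flat sections.
-/

set_option autoImplicit false
set_option backward.isDefEq.respectTransparency false
set_option backward.isDefEq.respectTransparency.types false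
set_option maxHeartbeats 1000000
set_option linter.style.haveILetI false

universe u

open CategoryTheory CategoryTheory.Limits AlgebraicGeometry HomologicalComplex Opposite MonoidalCategory
open Groth.Agent Groth.Agent.DerLib Groth.Agent.PerfDualLib Groth.Agent.ProjFormLib
open RpushLib (secFun)
open KFlatLib (tensorModCx shTm)

attribute [local instance] HasDerivedCategory.standard

namespace DerBCLib

variable {X X' : Scheme.{u}}

/-- K-flat stalks on `U`. -/
def KFOn (U : X.Opens) (C : Cx X) : Prop :=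
  ∀ x ∈ U, DRing.IsKFlat (X.presheaf.stalk x) ((KFlatLib.stalkCx X x).obj C)

theorem kfOn_of_isKFlat (U : X.Opens) {C : Cx X} (h : DCoh.IsKFlat C) : KFOn U C := fun x _ =>
  KFlatLib.stalks_isKFlat h x

theorem kfOn_pull (g : X' ⟶ X) {U : X.Opens} {C : Cx X} (h : KFOn U C) :
    KFOn (g ⁻¹ᵁ U) ((pullC g).obj C) := fun x hx =>
  KFlatLib.isKFlat_ring_of_iso (KFlatLib.stalkPullCxIso g x C).symm
    (KFlatLib.isKFlat_extend (g.stalkMap x).hom (h (g x) hx))

theorem qisOn_pull_kf (g : X' ⟶ X) {U : X.Opens} {P Q : Cx X} (hP : KFOn U P) (hQ : KFOn U Q)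
    {m : P ⟶ Q} (h : QisOn U m) : QisOn (g ⁻¹ᵁ U) ((pullC g).map m) := fun x hx => by
  haveI : QuasiIso ((KFlatLib.stalkCx X (g x)).map m) := h (g x) hx
  haveI : QuasiIso ((KFlatLib.extCx g x).map ((KFlatLib.stalkCx X (g x)).map m)) :=
    KFlatLib.quasiIso_extend _ (hP _ hx) (hQ _ hx) _
  haveI : QuasiIso ((KFlatLib.stalkCx X' x).map ((pullC g).map m) ≫
      (KFlatLib.stalkPullCxIso g x Q).hom) := by
    rw [KFlatLib.stalkPullCxIso_natural]
    infer_instance
  exact quasiIso_of_comp_right ((KFlatLib.stalkCx X' x).map ((pullC g).map m))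
    (KFlatLib.stalkPullCxIso g x Q).hom

theorem qisOn_tensorMod {U : X.Opens} {P Q : Cx X} (hP : KFOn U P) (hQ : KFOn U Q) {m : P ⟶ Q}
    (h : QisOn U m) (G : X.Modules) : QisOn U ((tensorModCx G).map m) := fun x hx => by
  haveI := h x hx
  have := KFlatLib.quasiIso_tensorRight (hP x hx) (hQ x hx) ((KFlatLib.stalkCx X x).map m)
    ((DerSch.stalkFunctor X x).obj G)
  have hn : ((tensorRight ((DerSch.stalkFunctor X x).obj G)).mapHomologicalComplex
        (ComplexShape.up ℤ)).map ((KFlatLib.stalkCx X x).map m) ≫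
        (KFlatLib.stalkTensorModCxIso x G Q).hom =
      (KFlatLib.stalkTensorModCxIso x G P).hom ≫ (KFlatLib.stalkCx X x).map ((tensorModCx G).map m) :=
    HomologicalComplex.hom_ext _ _ fun n => (KFlatLib.stalkTensorRightIso x G).hom.naturality (m.f n)
  haveI : QuasiIso ((KFlatLib.stalkTensorModCxIso x G P).hom ≫
      (KFlatLib.stalkCx X x).map ((tensorModCx G).map m)) := by
    rw [← hn]
    infer_instance
  exact quasiIso_of_comp_left (KFlatLib.stalkTensorModCxIso x G P).hom _

/-- Inverse image commutes with `- ⊗ G`. -/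
noncomputable def pullTensIso (g : X' ⟶ X) (G : X.Modules) :
    DCoh.tensorRightMod G ⋙ Scheme.Modules.pullback g ≅
      Scheme.Modules.pullback g ⋙ DCoh.tensorRightMod ((Scheme.Modules.pullback g).obj G) :=
  NatIso.ofComponents (fun M => asIso (KFlatLib.pullθ g M G))
    (fun a => KFlatLib.pullθ_natural_left g a G)

/-- Inverse image commutes with `- ⊗ G`, on complexes. -/
noncomputable def pullTensCxIso (g : X' ⟶ X) (G : X.Modules) :
    tensorModCx G ⋙ pullC g ≅ pullC g ⋙ tensorModCx ((Scheme.Modules.pullback g).obj G) :=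
  NatIso.mapHomologicalComplex (pullTensIso g G) (ComplexShape.up ℤ)

theorem qisOn_pull_tensorMod (g : X' ⟶ X) {U : X.Opens} {P Q : Cx X} (hP : KFOn U P) (hQ : KFOn U Q)
    {m : P ⟶ Q} (h : QisOn U m) (G : X.Modules) :
    QisOn (g ⁻¹ᵁ U) ((pullC g).map ((tensorModCx G).map m)) := fun x hx => by
  let G' := (Scheme.Modules.pullback g).obj G
  let η := pullTensCxIso g G
  let S := KFlatLib.stalkCx X' x
  haveI : QuasiIso (S.map ((tensorModCx G').map ((pullC g).map m))) :=
    qisOn_tensorMod (kfOn_pull g hP) (kfOn_pull g hQ) (qisOn_pull_kf g hP hQ h) G' x hx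
  haveI : IsIso (η.hom.app P) := inferInstance
  haveI : IsIso (η.hom.app Q) := inferInstance
  haveI : QuasiIso (S.map ((pullC g ⋙ tensorModCx G').map m)) :=
    ‹QuasiIso (S.map ((tensorModCx G').map ((pullC g).map m)))›
  have hn := congrArg S.map (η.hom.naturality m)
  rw [Functor.map_comp, Functor.map_comp] at hn
  haveI : QuasiIso (S.map ((pullC g).map ((tensorModCx G).map m)) ≫ S.map (η.hom.app Q)) := by
    refine Eq.mpr (congrArg (fun k => QuasiIso k) hn) ?_
    exact quasiIso_comp _ _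
  exact quasiIso_of_comp_right _ (S.map (η.hom.app Q))

theorem nonempty_extendScalarsId {A : Type u} [CommRing A] :
    ∀ σ : A →+* A, σ = RingHom.id A →
      Nonempty (ModuleCat.extendScalars.{u, u, u} σ ≅ 𝟭 (ModuleCat.{u} A)) := by
  rintro σ rfl
  exact ⟨ModuleCat.extendScalarsId A⟩

/-- Base change along a ring map with a left inverse. -/
theorem isKFlat_of_left_inverse {A B : Type u} [CommRing A] [CommRing B] (f : A →+* B) (g : B →+* A)
    (h : g.comp f = RingHom.id A) {K : CochainComplex (ModuleCat.{u} A) ℤ}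
    (hK : DRing.IsKFlat B (((ModuleCat.extendScalars.{u, u, u} f).mapHomologicalComplex
      (ComplexShape.up ℤ)).obj K)) : DRing.IsKFlat A K := by
  obtain ⟨η₀⟩ := nonempty_extendScalarsId (g.comp f) h
  let η := (ModuleCat.extendScalarsComp f g).symm ≪≫ η₀
  let K' := ((ModuleCat.extendScalars.{u, u, u} g).mapHomologicalComplex (ComplexShape.up ℤ)).obj
    (((ModuleCat.extendScalars.{u, u, u} f).mapHomologicalComplex (ComplexShape.up ℤ)).obj K)
  let e : K' ≅ K :=
    Hom.isoOfComponents (fun n => η.app (K.X n)) fun i j _ => (η.hom.naturality (K.d i j)).symm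
  exact KFlatLib.isKFlat_ring_of_iso e (KFlatLib.isKFlat_extend g hK)

theorem kfOn_of_rC {U : X.Opens} {C : Cx X} (h : DCoh.IsKFlat ((rC U).obj C)) : KFOn U C :=
  fun x hx => by
    let y : (U : Scheme.{u}) := ⟨x, hx⟩
    have hp : DCoh.IsKFlat ((pullC U.ι).obj C) :=
      KFlatLib.isKFlat_cx_of_iso
        ((NatIso.mapHomologicalComplex (Scheme.Modules.restrictFunctorIsoPullback U.ι)
          (ComplexShape.up ℤ)).app C) h
    exact isKFlat_of_left_inverse (U.ι.stalkMap y).hom (inv (U.ι.stalkMap y)).hom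
      (congrArg CommRingCat.Hom.hom (IsIso.hom_inv_id (U.ι.stalkMap y)))
      (KFlatLib.isKFlat_ring_of_iso (KFlatLib.stalkPullCxIso U.ι y C) (KFlatLib.stalks_isKFlat hp y))

section Chart

variable {V : X.Opens} (hV : IsAffineOpen V)

/-- Modules over `Γ(X, V)` as modules on `X`, pushed forward from `V`. -/
noncomputable abbrev chF : ModuleCat.{u} Γ(X, V) ⥤ X.Modules :=
  tilde.functor Γ(X, V) ⋙ Scheme.Modules.pushforward hV.isoSpec.inv ⋙
    Scheme.Modules.pushforward V.ι

/-- The same, on complexes. -/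
noncomputable abbrev chC : CochainComplex (ModuleCat.{u} Γ(X, V)) ℤ ⥤ Cx X :=
  (chF hV).mapHomologicalComplex (ComplexShape.up ℤ)

theorem lq_chF (N : ModuleCat.{u} Γ(X, V)) : LQ ((chF hV).obj N) V := by
  rw [lq_iff hV]
  let M₁ := (Scheme.Modules.pushforward hV.isoSpec.inv).obj ((tilde.functor Γ(X, V)).obj N)
  let e : ((chF hV).obj N).restrict hV.fromSpec ≅ (tilde.functor Γ(X, V)).obj N :=
    (Scheme.Modules.restrictFunctorComp hV.isoSpec.inv V.ι).app _ ≪≫
      (Scheme.Modules.restrictFunctor hV.isoSpec.inv).mapIso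
        ((asIso (Scheme.Modules.restrictAdjunction V.ι).counit).app M₁) ≪≫
      (asIso (Scheme.Modules.restrictAdjunction hV.isoSpec.inv).counit).app _
  exact @QCohLib.isQCoh_of_iso _ _ _ e.symm (inferInstanceAs (Coh.IsQCoh (tilde N)))

/-- Direct image along the inverse is inverse image. -/
noncomputable def pushInvIso :
    Scheme.Modules.pushforward hV.isoSpec.inv ≅ Scheme.Modules.pullback hV.isoSpec.hom :=
  (CategoryTheory.Equivalence.mk (Scheme.Modules.pushforward hV.isoSpec.inv)
      (Scheme.Modules.pushforward hV.isoSpec.hom)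
      ((Scheme.Modules.pushforwardId _).symm ≪≫
        Scheme.Modules.pushforwardCongr hV.isoSpec.inv_hom_id.symm ≪≫
          (Scheme.Modules.pushforwardComp _ _).symm)
      (Scheme.Modules.pushforwardComp _ _ ≪≫
        Scheme.Modules.pushforwardCongr hV.isoSpec.hom_inv_id ≪≫
          Scheme.Modules.pushforwardId _)).toAdjunction.leftAdjointUniq
    (Scheme.Modules.pullbackPushforwardAdjunction hV.isoSpec.hom)

/-- On `V` the chart is `toU`. -/
noncomputable def rCchIso (P : CochainComplex (ModuleCat.{u} Γ(X, V)) ℤ) :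
    (rC V).obj ((chC hV).obj P) ≅ (toU hV).obj P :=
  let η : chF hV ⋙ Scheme.Modules.restrictFunctor V.ι ≅
      tilde.functor Γ(X, V) ⋙ Scheme.Modules.pullback hV.isoSpec.hom :=
    NatIso.ofComponents (fun N => (asIso (Scheme.Modules.restrictAdjunction V.ι).counit).app
        ((Scheme.Modules.pushforward hV.isoSpec.inv).obj ((tilde.functor Γ(X, V)).obj N)) ≪≫
      (pushInvIso hV).app ((tilde.functor Γ(X, V)).obj N)) fun {N N'} a => by
      simp only [Iso.trans_hom, Iso.app_hom, asIso_hom, Category.assoc]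
      refine ((reassoc_of% ((Scheme.Modules.restrictAdjunction V.ι).counit.naturality
        ((Scheme.Modules.pushforward hV.isoSpec.inv).map ((tilde.functor Γ(X, V)).map a)))) _).trans ?_
      exact congrArg (_ ≫ ·) ((pushInvIso hV).hom.naturality ((tilde.functor Γ(X, V)).map a))
  Hom.isoOfComponents (fun n => η.app (P.X n)) fun i j _ => (η.hom.naturality (P.d i j)).symm

theorem kfOn_chC {P : CochainComplex (ModuleCat.{u} Γ(X, V)) ℤ} (hP : DRing.IsKFlat Γ(X, V) P) :
    KFOn V ((chC hV).obj P) :=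
  kfOn_of_rC (KFlatLib.isKFlat_cx_of_iso (rCchIso hV P).symm
    (KFlatLib.isKFlat_pull hV.isoSpec.hom (KFlatLib.isKFlat_tilde hP)))

/-- A chart for a complex with quasi-coherent cohomology on `V`. -/
theorem exists_chart (T : Cx X) (hT : DCoh.IsQCohD (DerivedCategory.Q.obj T)) :
    ∃ (P : CochainComplex (ModuleCat.{u} Γ(X, V)) ℤ) (W₀ : Cx X) (m : W₀ ⟶ T)
      (c : W₀ ⟶ (chC hV).obj P),
      DRing.IsKFlat Γ(X, V) P ∧ DCoh.IsKFlat W₀ ∧ QisOn V m ∧ QisOn V c := by
  have hT' : DCoh.IsQCohD (DerivedCategory.Q.obj ((rC V).obj T)) :=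
    KFlatLib.isQCohD_iso (DerivedCategory.Q.mapIso
      ((NatIso.mapHomologicalComplex (Scheme.Modules.restrictFunctorIsoPullback V.ι)
        (ComplexShape.up ℤ)).app T).symm) (isQCohD_pullCx_openImmersion V.ι T hT)
  obtain ⟨P₀, ⟨e₀⟩⟩ := exists_toU_iso hV _ hT'
  let P := (DRingLib.resP Γ(X, V)).obj P₀
  haveI := DRingLib.quasiIso_resψ P₀
  haveI := quasiIso_toU hV ((DRingLib.resψ Γ(X, V)).app P₀)
  let e : DerivedCategory.Q.obj ((toU hV).obj P) ≅ DerivedCategory.Q.obj ((rC V).obj T) :=
    asIso (DerivedCategory.Q.map ((toU hV).map ((DRingLib.resψ Γ(X, V)).app P₀))) ≪≫ e₀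
  obtain ⟨Z, s, hs, t, ht⟩ := DerivedCategory.right_fac e.hom
  haveI : QuasiIso s := (DerivedCategory.isIso_Q_map_iff_quasiIso _ s).1 hs
  haveI : IsIso (DerivedCategory.Q.map t) := by
    have : DerivedCategory.Q.map t = DerivedCategory.Q.map s ≫ e.hom := by
      rw [ht, IsIso.hom_inv_id_assoc]
    rw [this]
    infer_instance
  haveI : QuasiIso t := (DerivedCategory.isIso_Q_map_iff_quasiIso _ t).1 ‹_›
  haveI : QuasiIso (s ≫ (rCchIso hV P).inv) := quasiIso_comp _ _
  haveI : QuasiIso ((KFlatLib.resψ X).app ((jC V).obj Z)) := KFlatLib.quasiIso_resψ _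
  let ψ := (KFlatLib.resψ X).app ((jC V).obj Z)
  exact ⟨P, (KFlatLib.resP X).obj ((jC V).obj Z), ψ ≫ ((cadj V).homEquiv Z T).symm t,
    ψ ≫ ((cadj V).homEquiv Z ((chC hV).obj P)).symm (s ≫ (rCchIso hV P).inv),
    (DRingLib.good_resP P₀).1, (KFlatLib.good_resP _).1,
    qisOn_comp (QisOn.of_quasiIso V ψ) (qisOn_adjunct V t),
    qisOn_comp (QisOn.of_quasiIso V ψ) (qisOn_adjunct V _)⟩

/-! ### Sections of the chart -/

theorem exists_tildeSecIso (A : CommRingCat.{u}) :
    ∀ (U : (Spec (CommRingCat.of A)).Opens), U = ⊤ →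
      ∀ (σ : (A : Type u) →+* Γ(Spec (CommRingCat.of A), U)),
      (∀ a, σ a = (Spec A).presheaf.map U.leTop.op ((Scheme.ΓSpecIso A).inv a)) →
      Nonempty (tilde.functor A ⋙ secFun U σ ≅ 𝟭 (ModuleCat.{u} A)) := by
  rintro U rfl σ hσ
  refine ⟨Functor.isoWhiskerLeft (tilde.functor A) (NatIso.ofComponents
    (F := secFun (⊤ : (Spec (CommRingCat.of A)).Opens) σ) (G := TildeDerLib.gammaF A)
    (fun M => @LinearEquiv.toModuleIso A _ _ _
      ((secFun (⊤ : (Spec (CommRingCat.of A)).Opens) σ).obj M).isAddCommGroup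
      ((TildeDerLib.gammaF A).obj M).isAddCommGroup
      ((secFun (⊤ : (Spec (CommRingCat.of A)).Opens) σ).obj M).isModule
      ((TildeDerLib.gammaF A).obj M).isModule
      { toFun := fun m => m
        invFun := fun m => m
        left_inv := fun _ => rfl
        right_inv := fun _ => rfl
        map_add' := fun _ _ => rfl
        map_smul' := fun a (m : Γ(M, ⊤)) => by
          change σ a • m = a • m
          rw [Scheme.Modules.smul_Spec_def, hσ] }) fun _ => rfl) ≪≫ tilde.toTildeΓNatIso.symm⟩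

/-- Sections of the chart on `V`. -/
theorem exists_chSecIso :
    Nonempty (chF hV ⋙ secFun V (RingHom.id Γ(X, V)) ≅ 𝟭 (ModuleCat.{u} Γ(X, V))) := by
  let U : (Spec (CommRingCat.of Γ(X, V))).Opens := hV.isoSpec.inv ⁻¹ᵁ (V.ι ⁻¹ᵁ V)
  let σ : Γ(X, V) →+* Γ(Spec (CommRingCat.of Γ(X, V)), U) := (hV.fromSpec.app V).hom
  have hU : U = ⊤ := hV.fromSpec_preimage_self
  obtain ⟨e⟩ := exists_tildeSecIso Γ(X, V) U hU σ fun a => by
    change hV.fromSpec.app V a = _
    rw [hV.fromSpec_app_self]
    rfl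
  refine ⟨Functor.isoWhiskerLeft (tilde.functor Γ(X, V))
    (NatIso.ofComponents
      (F := (Scheme.Modules.pushforward hV.isoSpec.inv ⋙ Scheme.Modules.pushforward V.ι) ⋙
        secFun V (RingHom.id Γ(X, V))) (G := secFun U σ)
      (fun M => @LinearEquiv.toModuleIso Γ(X, V) _ _ _
        (((Scheme.Modules.pushforward hV.isoSpec.inv ⋙ Scheme.Modules.pushforward V.ι) ⋙
          secFun V (RingHom.id Γ(X, V))).obj M).isAddCommGroup
        ((secFun U σ).obj M).isAddCommGroup
        (((Scheme.Modules.pushforward hV.isoSpec.inv ⋙ Scheme.Modules.pushforward V.ι) ⋙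
          secFun V (RingHom.id Γ(X, V))).obj M).isModule
        ((secFun U σ).obj M).isModule
        { toFun := fun m => m
          invFun := fun m => m
          left_inv := fun _ => rfl
          right_inv := fun _ => rfl
          map_add' := fun _ _ => rfl
          map_smul' := fun _ _ => rfl }) fun _ => rfl) ≪≫ e⟩

theorem nonempty_secC_chC (P : CochainComplex (ModuleCat.{u} Γ(X, V)) ℤ) :
    Nonempty ((secC V (RingHom.id Γ(X, V))).obj ((chC hV).obj P) ≅ P) := by
  obtain ⟨e⟩ := exists_chSecIso hV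
  exact ⟨(NatIso.mapHomologicalComplex e (ComplexShape.up ℤ)).app P ≪≫
    (Functor.mapHomologicalComplexIdIso _ _).app P⟩

end Chart

/-! ### Base change acyclicity of the sections -/

variable {R B : Type u} [CommRing R] [CommRing B] [Algebra R B] {V : X.Opens} (φ : R →+* Γ(X, V))

theorem bGood_id_of_iso {N N' : CochainComplex (ModuleCat.{u} R) ℤ} (e : N ≅ N')
    (h : BGood (𝟙 ((tB B).obj N))) : BGood (𝟙 ((tB B).obj N')) :=
  (bGood_iff_of_square (𝟙 _) (𝟙 _) e.hom ((tB B).map e.hom) (Homotopy.ofEq (by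
    rw [Category.comp_id, Category.id_comp]))).2 h

theorem bGood_id_of_flat [Module.Flat R B] (N : CochainComplex (ModuleCat.{u} R) ℤ) :
    BGood (𝟙 ((tB B).obj N)) := by
  haveI := DRingLib.quasiIso_resψ N
  haveI := quasiIso_tensorLeft_flat (N := Bm (R := R) B) ((DRingLib.resψ R).app N)
  change QuasiIso ((tB B).map ((DRingLib.resψ R).app N) ≫ 𝟙 _)
  rw [Category.comp_id]
  assumption

/-- `Γ(M) ⊗ Γ(G) → Γ(M ⊗ G)`, natural in `M`. -/
noncomputable def secTensNat (G : X.Modules) :
    secFun V (RingHom.id Γ(X, V)) ⋙ tensG φ ((secFun V (RingHom.id Γ(X, V))).obj G) ⟶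
      DCoh.tensorRightMod G ⋙ secFun V φ where
  app M := @ModuleCat.ofHom R _
    ((secFun V (RingHom.id Γ(X, V)) ⋙ tensG φ ((secFun V (RingHom.id Γ(X, V))).obj G)).obj M)
    ((DCoh.tensorRightMod G ⋙ secFun V φ).obj M) _ _ _ _
    { toFun := fun z => shLin M G V z
      map_add' := fun _ _ => map_add (shLin M G V) _ _
      map_smul' := fun r z => (shLin M G V).map_smul (φ r) z }
  naturality {M N} a := by
    refine ModuleCat.hom_ext (LinearMap.ext fun (z : TensorProduct Γ(X, V) Γ(M, V) Γ(G, V)) => ?_)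
    induction z using TensorProduct.induction_on with
    | zero => exact (map_zero _).trans (map_zero _).symm
    | tmul m n => exact (KFlatLib.tensorBi_map₁_shTm a G m n).symm
    | add x y hx hy => exact (map_add _ x y).trans ((congrArg₂ (· + ·) hx hy).trans (map_add _ x y).symm)

theorem exists_secTensIso (hV : IsAffineOpen V) {G : X.Modules} (hG : LQ G V) {C : Cx X}
    (hC : ∀ n, LQ (C.X n) V) :
    Nonempty (((tensG φ ((secFun V (RingHom.id Γ(X, V))).obj G)).mapHomologicalComplex
        (ComplexShape.up ℤ)).obj ((secC V (RingHom.id Γ(X, V))).obj C) ≅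
      (secC V φ).obj ((tensorModCx G).obj C)) := by
  let t := (NatTrans.mapHomologicalComplex (secTensNat φ G) (ComplexShape.up ℤ)).app C
  haveI : ∀ n, IsIso (t.f n) := fun n => by
    rw [ConcreteCategory.isIso_iff_bijective]
    change Function.Bijective (shLin (C.X n) G V)
    exact bijective_shLin (C.X n) G V hV (hC n) hG
  haveI := HomologicalComplex.Hom.isIso_of_components t
  exact ⟨asIso t⟩

/-- Sections over `R` are restricted from sections over the ring of functions. -/
noncomputable def secFunRestrIso :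
    secFun V φ ≅ secFun V (RingHom.id Γ(X, V)) ⋙ ModuleCat.restrictScalars.{u} φ :=
  NatIso.ofComponents (fun M => @LinearEquiv.toModuleIso R _ _ _
    ((secFun V φ).obj M).isAddCommGroup
    ((secFun V (RingHom.id Γ(X, V)) ⋙ ModuleCat.restrictScalars.{u} φ).obj M).isAddCommGroup
    ((secFun V φ).obj M).isModule
    ((secFun V (RingHom.id Γ(X, V)) ⋙ ModuleCat.restrictScalars.{u} φ).obj M).isModule
    { toFun := fun m => m
      invFun := fun m => m
      left_inv := fun _ => rfl
      right_inv := fun _ => rfl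
      map_add' := fun _ _ => rfl
      map_smul' := fun _ _ => rfl }) fun _ => rfl

variable (hV : IsAffineOpen V)

/-- Acyclicity for `C ⊗ G`. -/
theorem bGood_id_chC_tens {G : X.Modules} (hG : LQ G V) (Q : ProjectiveResolution (Bm (R := R) B))
    (hQ : QuasiIso (((tensorLeft ((ModuleCat.restrictScalars φ).obj
      ((secFun V (RingHom.id Γ(X, V))).obj G))).mapHomologicalComplex (ComplexShape.up ℤ)).map Q.π'))
    {P : CochainComplex (ModuleCat.{u} Γ(X, V)) ℤ} (hP : DRing.IsKFlat Γ(X, V) P) :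
    BGood (𝟙 ((tB B).obj ((secC V φ).obj ((tensorModCx G).obj ((chC hV).obj P))))) := by
  obtain ⟨e⟩ := exists_secTensIso φ hV hG (C := (chC hV).obj P) fun n => lq_chF hV _
  obtain ⟨e'⟩ := nonempty_secC_chC hV P
  exact bGood_id_of_iso e (bGood_id_tensG φ _ Q hQ (KFlatLib.isKFlat_ring_of_iso e'.symm hP))

/-- Acyclicity for `C`. -/
theorem bGood_id_chC (Q : ProjectiveResolution (Bm (R := R) B))
    (hQ : QuasiIso (((tensorLeft ((ModuleCat.restrictScalars φ).obj
      (𝟙_ (ModuleCat.{u} Γ(X, V))))).mapHomologicalComplex (ComplexShape.up ℤ)).map Q.π'))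
    {P : CochainComplex (ModuleCat.{u} Γ(X, V)) ℤ} (hP : DRing.IsKFlat Γ(X, V) P) :
    BGood (𝟙 ((tB B).obj ((secC V φ).obj ((chC hV).obj P)))) := by
  obtain ⟨e'⟩ := nonempty_secC_chC hV P
  let η : tensG φ (𝟙_ (ModuleCat.{u} Γ(X, V))) ≅ ModuleCat.restrictScalars φ :=
    Functor.isoWhiskerRight (MonoidalCategory.rightUnitorNatIso (ModuleCat.{u} Γ(X, V))) _ ≪≫
      Functor.leftUnitor _
  let C := (chC hV).obj P
  let N := (secC V (RingHom.id Γ(X, V))).obj C
  let e : ((tensG φ (𝟙_ (ModuleCat.{u} Γ(X, V)))).mapHomologicalComplex (ComplexShape.up ℤ)).obj N ≅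
      (secC V φ).obj C :=
    Hom.isoOfComponents (fun n => η.app (N.X n) ≪≫ ((secFunRestrIso φ).app (C.X n)).symm)
      fun i j _ => by
        refine ((Category.assoc _ _ _).trans (congrArg ((η.app (N.X i)).hom ≫ ·)
          ((secFunRestrIso φ).inv.naturality (C.d i j)).symm)).trans ?_
        exact ((Category.assoc _ _ _).symm.trans
          (congrArg (· ≫ _) (η.hom.naturality (N.d i j)).symm)).trans (Category.assoc _ _ _)
  exact bGood_id_of_iso e (bGood_id_tensG φ _ Q hQ (KFlatLib.isKFlat_ring_of_iso e'.symm hP))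

end DerBCLib
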