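import Groth.Agent.ProjFormLib.Pieces
import Groth.Agent.KFlatLib.Triangle
import Groth.Agent.RpushLib.Sec
import Groth.Agent.QRlimLib.Exact
import Groth.Agent.PerfCompLib.ExtZero

/-!
# Complexes orthogonal to acyclic K-flat complexes compute derived sections

A complex `W` is weakly K-injective if every map into it from an acyclic K-flat complex is null
homotopic. Direct images of weakly K-injective complexes are weakly K-injective, and quasi-isomorphisms
between them give quasi-isomorphisms on sections.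
-/

set_option autoImplicit false
set_option backward.isDefEq.respectTransparency false
set_option backward.isDefEq.respectTransparency.types false
set_option maxHeartbeats 1000000
set_option linter.style.haveILetI false

universe u

open CategoryTheory CategoryTheory.Limits AlgebraicGeometry HomologicalComplex Opposite
open Groth.Agent.DerLib Groth.Agent.PerfDualLib Groth.Agent.ProjFormLib
open Groth.Agent
open CochainComplex (mappingCone mappingCocone)

attribute [local instance] HasDerivedCategory.standard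

namespace DerBCLib

variable {X Y : Scheme.{u}}

/-- Weakly K-injective complexes. -/
def WI (W : Cx X) : Prop :=
  ∀ (P : Cx X), DCoh.IsKFlat P → (∀ i, IsZero (P.homology i)) → ∀ a : P ⟶ W, Nonempty (Homotopy a 0)

theorem wi_of_isKInjective (I : Cx X) [I.IsKInjective] : WI I := fun P _ hP a =>
  CochainComplex.IsKInjective.nonempty_homotopy_zero a fun i =>
    (exactAt_iff_isZero_homology _ _).2 (hP i)

theorem isKFlat_shift_mod {P : Cx X} (hP : DCoh.IsKFlat P) (k : ℤ) : DCoh.IsKFlat (P⟦k⟧) :=
  KFlatLib.isKFlat_of_stalks _ fun x => KFlatLib.isKFlat_ring_of_iso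
    (((KFlatLib.stalkCx X x).commShiftIso k).app P).symm
    (KFlatLib.isKFlat_shift (KFlatLib.stalks_isKFlat hP x) k)

theorem isKFlat_of_iso {P Q : Cx X} (e : P ≅ Q) (hP : DCoh.IsKFlat P) : DCoh.IsKFlat Q :=
  KFlatLib.isKFlat_of_stalks _ fun x => KFlatLib.isKFlat_ring_of_iso
    ((KFlatLib.stalkCx X x).mapIso e) (KFlatLib.stalks_isKFlat hP x)

theorem WI.of_iso {W W' : Cx X} (e : W ≅ W') (h : WI W) : WI W' := fun P hP hP₀ a => by
  obtain ⟨ha⟩ := h P hP hP₀ (a ≫ e.inv)
  exact ⟨(Homotopy.ofEq (by simp)).trans ((ha.compRight e.hom).trans (Homotopy.ofEq zero_comp))⟩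

theorem WI.shift {W : Cx X} (h : WI W) (k : ℤ) : WI (W⟦k⟧) := fun P hP hP₀ a => by
  obtain ⟨ha⟩ := h (P⟦-k⟧) (isKFlat_shift_mod hP _)
    (fun i => KFlatLib.acyclic_shift hP₀ (-k) i)
    (a⟦-k⟧' ≫ ((shiftFunctorCompIsoId (Cx X) k (-k) (add_neg_cancel k)).app W).hom)
  let q := HomotopyCategory.quotient X.Modules (ComplexShape.up ℤ)
  have h0 := HomotopyCategory.eq_of_homotopy _ _ ha
  rw [Functor.map_comp, Functor.map_zero] at h0
  have h1 : q.map (a⟦-k⟧') = 0 := (cancel_mono _).1 (h0.trans zero_comp.symm)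
  have h2 : (shiftFunctor _ (-k)).map (q.map a) = 0 := by
    have hn := (q.commShiftIso (-k)).hom.naturality a
    change q.map (a⟦-k⟧') ≫ _ = _ at hn
    rw [h1, zero_comp] at hn
    exact (cancel_epi _).1 (hn.symm.trans comp_zero.symm)
  exact ⟨HomotopyCategory.homotopyOfEq _ _
    (((shiftFunctor _ (-k)).map_injective (h2.trans (Functor.map_zero _ _ _).symm)).trans
      (q.map_zero _ _).symm)⟩

theorem WI.ext₂ {S : ShortComplex (Cx X)} (hS : KFlatLib.DegSplit S) (h₁ : WI S.X₁)
    (h₃ : WI S.X₃) : WI S.X₂ := fun P hP hP₀ a => by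
  obtain ⟨H⟩ := h₃ P hP hP₀ (a ≫ S.g)
  let b : P ⟶ S.X₂ := Homotopy.nullHomotopicMap' fun i j _ => H.hom i j ≫ (hS j).s
  have hb : b ≫ S.g = a ≫ S.g := by
    rw [Homotopy.nullHomotopicMap'_comp]
    ext n : 1
    have hc := H.comm n
    rw [zero_f, add_zero] at hc
    rw [hc, dNext_eq _ (show (ComplexShape.up ℤ).Rel n (n + 1) from rfl),
      prevD_eq _ (show (ComplexShape.up ℤ).Rel (n - 1) n by simp),
      Homotopy.nullHomotopicMap'_f (show (ComplexShape.up ℤ).Rel (n - 1) n by simp)
        (show (ComplexShape.up ℤ).Rel n (n + 1) from rfl)]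
    congr 1
    · congr 1
      exact (Category.assoc _ _ _).trans
        ((congrArg (_ ≫ ·) (hS n).s_g).trans (Category.comp_id _))
    · congr 1
      exact (Category.assoc _ _ _).trans
        ((congrArg (_ ≫ ·) (hS (n - 1)).s_g).trans (Category.comp_id _))
  have hT := KFlatLib.shortExact_of_degSplit hS
  haveI := hT.mono_f
  obtain ⟨c, hc⟩ := KernelFork.IsLimit.lift' hT.fIsKernel (a - b)
    (by rw [Preadditive.sub_comp, hb, sub_self])
  obtain ⟨hc'⟩ := h₁ P hP hP₀ c
  exact ⟨(Homotopy.ofEq (sub_add_cancel a b).symm).trans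
    ((((Homotopy.ofEq hc.symm).trans ((hc'.compRight S.f).trans (Homotopy.ofEq zero_comp))).add
      (Homotopy.nullHomotopy' _)).trans (Homotopy.ofEq (add_zero _)))⟩

theorem WI.cone {W W' : Cx X} (e : W ⟶ W') (h : WI W) (h' : WI W') : WI (mappingCone e) :=
  WI.ext₂ (S := CochainComplex.mappingCone.triangleRotateShortComplex e)
    (CochainComplex.mappingCone.triangleRotateShortComplexSplitting e) h' (h.shift 1)

theorem WI.cocone {W W' : Cx X} (e : W ⟶ W') (h : WI W) (h' : WI W') : WI (mappingCocone e) :=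
  (WI.cone e h h').shift (-1)

theorem WI.biprod {W W' : Cx X} (h : WI W) (h' : WI W') : WI (W ⊞ W') :=
  WI.ext₂ (S := ShortComplex.mk (biprod.inl : W ⟶ W ⊞ W') biprod.snd biprod.inl_snd)
    (fun n => ShortComplex.Splitting.map
      { r := biprod.fst, s := biprod.inr, f_r := biprod.inl_fst, s_g := biprod.inr_snd,
        id := biprod.total } (eval _ (ComplexShape.up ℤ) n)) h h'

theorem WI.push (f : X ⟶ Y) {W : Cx X} (h : WI W) : WI ((pushC f).obj W) := fun P hP hP₀ a => by
  have hq : QuasiIso (0 : P ⟶ P) := ⟨fun i => (quasiIsoAt_iff_isIso_homologyMap _ _).2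
    ((hP₀ i).isIso (hP₀ i) _)⟩
  haveI := hq
  haveI := KFlatLib.quasiIso_pull f hP hP (0 : P ⟶ P)
  have hz : ∀ i, IsZero (((pullC f).obj P).homology i) := fun i => by
    have hi : IsIso (homologyMap ((pullC f).map (0 : P ⟶ P)) i) :=
      (quasiIsoAt_iff_isIso_homologyMap _ _).1 inferInstance
    rw [Functor.map_zero, homologyMap_zero] at hi
    exact (IsZero.iff_id_eq_zero _).2 (by rw [← cancel_epi (0 : ((pullC f).obj P).homology i ⟶ _)]; simp)
  obtain ⟨hb⟩ := h _ (KFlatLib.isKFlat_pull f hP) hz (((cxAdj f).homEquiv P W).symm a)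
  have ha : a = (cxAdj f).unit.app P ≫ (pushC f).map (((cxAdj f).homEquiv P W).symm a) :=
    ((Equiv.apply_symm_apply _ a).symm).trans ((cxAdj f).homEquiv_unit _ _ _)
  exact ⟨(Homotopy.ofEq ha).trans
    ((((Scheme.Modules.pushforward f).mapHomotopy hb).compLeft _).trans
      (Homotopy.ofEq (by rw [(pushC f).map_zero, comp_zero])))⟩

/-- The composition `cocone c ⟶ K ⟶ L` is null homotopic. -/
noncomputable def fstHomotopy {K L : Cx X} (c : K ⟶ L) :
    Homotopy (CochainComplex.mappingCocone.fst c ≫ c) 0 :=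
  (CochainComplex.HomComplex.Cochain.equivHomotopy _ _).symm
    ⟨-CochainComplex.mappingCocone.snd c, by
      rw [CochainComplex.HomComplex.δ_neg, CochainComplex.mappingCocone.snd,
        CochainComplex.HomComplex.Cochain.δ_leftShift _ (-1) (-1) 0 _ 1 (by omega),
        CochainComplex.mappingCone.δ_snd, CochainComplex.HomComplex.Cochain.leftShift_neg,
        CochainComplex.HomComplex.Cochain.leftShift_comp_zero_cochain,
        CochainComplex.HomComplex.Cochain.ofHom_comp, CochainComplex.mappingCocone.fst]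
      simp⟩

/-- Maps from a free module on `V` factor through the extension by zero. -/
theorem isIso_extι_freeU (V : X.Opens) : IsIso ((PerfCompLib.extι V).app (KFlatLib.freeU V)) :=
  FiltSectLib.isIso_of_stalks _ fun x => by
    by_cases hx : x ∈ V
    · exact PerfCompLib.isIso_stalk_extι hx _
    · exact (PerfCompLib.isZero_stalk_extU hx _).isIso (PerfDualLib.subsingleton_stalk_freeU hx) _

/-- Extension by zero of complexes, with its counit. -/
noncomputable abbrev extC (V : X.Opens) : Cx X ⥤ Cx X :=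
  (PerfCompLib.extU V).mapHomologicalComplex (ComplexShape.up ℤ)

/-- A weakly K-injective complex acyclic on `V` has acyclic sections on `V`. -/
theorem nonempty_homotopy_sf {V : X.Opens} {W : Cx X} (hW : WI W) (hV : AcyOn V W) (n : ℤ)
    (a : sf V n ⟶ W) : Nonempty (Homotopy a 0) := by
  let ε : extC V ⟶ 𝟭 _ :=
    NatTrans.mapHomologicalComplex (PerfCompLib.extι V) (ComplexShape.up ℤ) ≫
      (Functor.mapHomologicalComplexIdIso _ _).hom
  let C' := (extC V).obj W
  have hC' : ∀ i, IsZero (C'.homology i) := (KFlatLib.acyclic_iff_stalks C').2 fun x i => by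
    by_cases hx : x ∈ V
    · haveI : ∀ k, IsIso (((KFlatLib.stalkCx X x).map (ε.app W)).f k) := fun k => by
        haveI := PerfCompLib.isIso_stalk_extι hx (W.X k)
        change IsIso ((DerSch.stalkFunctor X x).map ((PerfCompLib.extι V).app (W.X k) ≫ 𝟙 _))
        rw [Category.comp_id]
        infer_instance
      haveI := HomologicalComplex.Hom.isIso_of_components ((KFlatLib.stalkCx X x).map (ε.app W))
      exact (hV x hx i).of_iso ((HomologicalComplex.homologyFunctor _ _ i).mapIso
        (asIso ((KFlatLib.stalkCx X x).map (ε.app W))))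
    · exact (exactAt_iff_isZero_homology _ _).1 (ShortComplex.exact_of_isZero_X₂ _
        (PerfCompLib.isZero_stalk_extU hx (W.X i)))
  haveI : IsIso (ε.app (sf V n)) := by
    haveI : ∀ k, IsIso ((ε.app (sf V n)).f k) := fun k => by
      change IsIso ((PerfCompLib.extι V).app ((sf V n).X k) ≫ 𝟙 _)
      rw [Category.comp_id]
      by_cases hk : k = n
      · subst hk
        haveI := isIso_extι_freeU V
        exact (NatTrans.isIso_app_iff_of_iso (PerfCompLib.extι V)
          (singleObjXSelf (ComplexShape.up ℤ) k (KFlatLib.freeU V))).2 inferInstance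
      · have hz := isZero_single_obj_X (ComplexShape.up ℤ) n (KFlatLib.freeU V) k hk
        exact ((PerfCompLib.extU V).map_isZero hz).isIso hz _
    exact HomologicalComplex.Hom.isIso_of_components _
  let c : sf V n ⟶ C' := inv (ε.app (sf V n)) ≫ (extC V).map a
  have hca : c ≫ ε.app W = a := by
    simp only [c, Category.assoc]
    rw [ε.naturality a, IsIso.inv_hom_id_assoc]
    rfl
  haveI hfst : QuasiIso (CochainComplex.mappingCocone.fst c) := by
    refine (DerivedCategory.isIso_Q_map_iff_quasiIso _ _).1 ?_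
    have hT := DerivedCategory.mappingCocone_triangle_distinguished c
    refine (Pretriangulated.Triangle.isZero₃_iff_isIso₁ _ hT).1 ?_
    obtain ⟨Z, hZ⟩ : ∃ Z : Cx X, IsZero Z := HasZeroObject.zero
    haveI : QuasiIso (0 : C' ⟶ Z) := ⟨fun i => (quasiIsoAt_iff_isIso_homologyMap _ _).2
      ((hC' i).isIso ((HomologicalComplex.homologyFunctor _ _ i).map_isZero hZ) _)⟩
    exact (DerivedCategory.Q.map_isZero hZ).of_iso (asIso (DerivedCategory.Q.map (0 : C' ⟶ Z)))
  let F := (KFlatLib.resP X).obj (mappingCocone c)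
  let ψ : F ⟶ mappingCocone c := (KFlatLib.resψ X).app (mappingCocone c)
  haveI : QuasiIso ψ := KFlatLib.quasiIso_resψ _
  let ρ : F ⟶ sf V n := ψ ≫ CochainComplex.mappingCocone.fst c
  haveI : QuasiIso ρ := quasiIso_comp _ _
  let H₀ := fstHomotopy c
  let H₁ : Homotopy (ρ ≫ a) 0 := (Homotopy.ofEq (by simp [ρ, ← hca])).trans
    (((H₀.compLeft ψ).compRight (ε.app W)).trans (Homotopy.ofEq (by simp)))
  let e₀ : mappingCone ρ ⟶ W := CochainComplex.mappingCone.desc ρ
    (CochainComplex.HomComplex.Cochain.ofHomotopy H₁) a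
    (by rw [CochainComplex.HomComplex.δ_ofHomotopy]; simp)
  obtain ⟨he⟩ := hW (mappingCone ρ)
    (KFlatLib.isKFlat_mappingCone_mod (KFlatLib.good_resP _).1
      (DCohRestrLib.isKFlat_singleFree V n) ρ)
    ((KFlatLib.acyclic_cone_iff ρ).2 inferInstance) e₀
  exact ⟨(Homotopy.ofEq (by simp [e₀])).trans
    ((he.compLeft (CochainComplex.mappingCone.inr ρ)).trans (Homotopy.ofEq comp_zero))⟩

variable {R : Type u} [CommRing R]

/-- Complexes of sections. -/
noncomputable abbrev secC (V : X.Opens) (φ : R →+* Γ(X, V)) :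
    Cx X ⥤ CochainComplex (ModuleCat.{u} R) ℤ :=
  (RpushLib.secFun V φ).mapHomologicalComplex (ComplexShape.up ℤ)

theorem isZero_homology_sec {V : X.Opens} (φ : R →+* Γ(X, V)) {W : Cx X} (hW : WI W)
    (hV : AcyOn V W) (i : ℤ) : IsZero (((secC V φ).obj W).homology i) := by
  refine (exactAt_iff_isZero_homology _ _).1 ?_
  rw [exactAt_iff' _ (i - 1) i (i + 1) (by simp) (by simp), ShortComplex.moduleCat_exact_iff]
  intro z hz
  let s : Γ(W.X i, V) := z
  let a : sf V i ⟶ W := mkHomFromSingle (KFlatLib.secMap s) (fun j hj => by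
    obtain rfl : j = i + 1 := hj.symm
    rw [KFlatLib.secMap_comp, show (W.d i (i + 1)).app V s = 0 from hz, KFlatLib.secMap_zero])
  obtain ⟨H⟩ := nonempty_homotopy_sf hW hV i a
  let w : KFlatLib.freeU V ⟶ W.X (i - 1) :=
    (singleObjXSelf (ComplexShape.up ℤ) i _).inv ≫ H.hom i (i - 1)
  have hw : w ≫ W.d (i - 1) i = KFlatLib.secMap s := by
    have hc := H.comm i
    rw [dNext_eq H.hom (show (ComplexShape.up ℤ).Rel i (i + 1) from rfl),
      prevD_eq H.hom (show (ComplexShape.up ℤ).Rel (i - 1) i by simp)] at hc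
    simp only [single_obj_d, zero_comp, zero_add, zero_f, add_zero] at hc
    simp only [w, Category.assoc]
    rw [← hc]
    simp [a]
  refine ⟨KFlatLib.freeUEquiv V _ w, ?_⟩
  change (W.d (i - 1) i).app V (KFlatLib.freeUEquiv V _ w) = z
  rw [← KFlatLib.freeUEquiv_comp, hw, KFlatLib.secMap, Equiv.apply_symm_apply]

/-- Quasi-isomorphisms on `V` between weakly K-injective complexes are seen by sections. -/
theorem quasiIso_sec {V : X.Opens} (φ : R →+* Γ(X, V)) {W W' : Cx X} (hW : WI W) (hW' : WI W')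
    {e : W ⟶ W'} (he : QisOn V e) : QuasiIso ((secC V φ).map e) := by
  refine (KFlatLib.acyclic_cone_iff _).1 fun i => ?_
  exact (isZero_homology_sec φ (WI.cone e hW hW') (acyOn_cone_of_qisOn he) i).of_iso
    ((HomologicalComplex.homologyFunctor _ _ i).mapIso
      (CochainComplex.mappingCone.mapHomologicalComplexIso e (RpushLib.secFun V φ)).symm)

end DerBCLib
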