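import Groth.Agent.DerBCLib.Models
import Groth.Agent.KFlatLib.LpullAdj
import Groth.Agent.KFlatLib.TorAmpMore
import Groth.Prelude.Def_DCoh3

/-!
# The derived base change morphism

For the canonical identification of the composite derived direct images the base change morphism of
`D(O)` is computed by the base change map of complexes.
-/

set_option autoImplicit false
set_option backward.isDefEq.respectTransparency false
set_option backward.isDefEq.respectTransparency.types false
set_option maxHeartbeats 1000000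
set_option linter.style.haveILetI false

universe u

open CategoryTheory CategoryTheory.Limits AlgebraicGeometry HomologicalComplex Opposite
open Groth.Agent Groth.Agent.DerLib Groth.Agent.PerfDualLib Groth.Agent.ProjFormLib
open DCohRestrLib (pushUnit)

attribute [local instance] HasDerivedCategory.standard

namespace DerBCLib

variable {X S X' S' : Scheme.{u}}

/-- Direct image on the homotopy category. -/
noncomputable abbrev pushH (f : X ⟶ S) :
    HomotopyCategory X.Modules (ComplexShape.up ℤ) ⥤ HomotopyCategory S.Modules (ComplexShape.up ℤ) :=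
  (Scheme.Modules.pushforward f).mapHomotopyCategory (ComplexShape.up ℤ)

/-- Complexes in the homotopy category. -/
noncomputable abbrev qH (X : Scheme.{u}) : Cx X ⥤ HomotopyCategory X.Modules (ComplexShape.up ℤ) :=
  HomotopyCategory.quotient X.Modules (ComplexShape.up ℤ)

/-- Complexes in the derived category, through the homotopy category. -/
noncomputable abbrev QhC (X : Scheme.{u}) : Cx X ⥤ DCoh.D X := qH X ⋙ DerivedCategory.Qh

theorem isIso_QhC {K L : Cx X} (e : K ⟶ L) [QuasiIso e] : IsIso ((QhC X).map e) :=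
  Localization.inverts DerivedCategory.Qh (HomotopyCategory.quasiIso _ _) _
    ((HomotopyCategory.quotient_map_mem_quasiIso_iff _).2
      ((HomologicalComplex.mem_quasiIso_iff _).2 ‹_›))

theorem isIso_pushUnit_wi (f : X ⟶ S) [DCoh.HasRpush f] {L : Cx X} (hL : WI L) :
    IsIso ((pushUnit f).app ((qH X).obj L)) := by
  obtain ⟨I, i, hI, hi, -⟩ := exists_injRes L
  haveI := hI
  haveI := hi
  haveI := quasiIso_push_wi f hL (wi_of_isKInjective I) i
  exact DCohRestrLib.isIso_unit_of_quasiIso KFlatLib.enoughKInj_modules (DCoh.Rpush f) (pushUnit f) i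

variable {f : X ⟶ S} {g : S' ⟶ S} {f' : X' ⟶ S'} {g' : X' ⟶ X} (hw : g' ≫ f = f' ≫ g)

/-- The comparison in the homotopy category. -/
noncomputable def sqH : pushH g' ⋙ pushH f ⟶ pushH f' ⋙ pushH g where
  app K := (qH S).map (sqMap hw K.as)
  naturality {K L} φ := by
    obtain ⟨φ₀, rfl⟩ := (qH X').map_surjective φ
    change (qH S).map ((pushC f).map ((pushC g').map φ₀)) ≫ (qH S).map (sqMap hw L.as) =
      (qH S).map (sqMap hw K.as) ≫ (qH S).map ((pushC g).map ((pushC f').map φ₀))
    rw [← Functor.map_comp, ← Functor.map_comp]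
    exact congrArg (qH S).map (sqMap_natural hw φ₀)

variable [DCoh.HasRpush f] [DCoh.HasRpush g] [DCoh.HasRpush f'] [DCoh.HasRpush g']

/-- The unit of `Rf_* Rg'_*`. -/
noncomputable def unit₁ (f : X ⟶ S) (g' : X' ⟶ X) [DCoh.HasRpush f] [DCoh.HasRpush g'] :
    pushH g' ⋙ pushH f ⋙ DerivedCategory.Qh ⟶
      DerivedCategory.Qh ⋙ DCoh.Rpush g' ⋙ DCoh.Rpush f where
  app K := (pushUnit f).app ((pushH g').obj K) ≫ (DCoh.Rpush f).map ((pushUnit g').app K)
  naturality {K L} φ := by
    have h₁ := (pushUnit f).naturality ((pushH g').map φ)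
    have h₂ := (pushUnit g').naturality φ
    simp only [Functor.comp_map] at h₁ h₂ ⊢
    rw [reassoc_of% h₁, Category.assoc, ← Functor.map_comp, ← Functor.map_comp, h₂]

/-- The unit of `Rg_* Rf'_*`, transported along the square. -/
noncomputable def unit₂ : pushH g' ⋙ pushH f ⋙ DerivedCategory.Qh ⟶
    DerivedCategory.Qh ⋙ DCoh.Rpush f' ⋙ DCoh.Rpush g where
  app K := DerivedCategory.Qh.map ((sqH hw).app K) ≫ (unit₁ g f').app K
  naturality {K L} φ := by
    have h := (unit₁ g f').naturality φ
    simp only [Functor.comp_map] at h ⊢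
    have h' := DerivedCategory.Qh.congr_map ((sqH hw).naturality φ)
    simp only [Functor.comp_map, Functor.map_comp] at h'
    rw [reassoc_of% h', Category.assoc, h]

theorem isIso_unit₁ (f : X ⟶ S) (g' : X' ⟶ X) [DCoh.HasRpush f] [DCoh.HasRpush g']
    (I : Cx X') [I.IsKInjective] : IsIso ((unit₁ f g').app ((qH X').obj I)) := by
  haveI : IsIso ((pushUnit g').app ((qH X').obj I)) := DCohRestrLib.isIso_pushUnit g' I
  haveI : IsIso ((pushUnit f).app ((pushH g').obj ((qH X').obj I))) :=
    isIso_pushUnit_wi f ((wi_of_isKInjective I).push g')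
  change IsIso ((pushUnit f).app ((pushH g').obj ((qH X').obj I)) ≫
    (DCoh.Rpush f).map ((pushUnit g').app ((qH X').obj I)))
  infer_instance

theorem isIso_unit₂ (I : Cx X') [I.IsKInjective] : IsIso ((unit₂ hw).app ((qH X').obj I)) := by
  haveI := isIso_unit₁ g f' I
  haveI : IsIso (sqMap hw I) := by
    haveI : ∀ n, IsIso ((sqMap hw I).f n) := fun n => by
      change IsIso ((pushSq hw).hom.app (I.X n))
      infer_instance
    exact HomologicalComplex.Hom.isIso_of_components _
  change IsIso (DerivedCategory.Qh.map ((qH S).map (sqMap hw I)) ≫ (unit₁ g f').app ((qH X').obj I))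
  infer_instance

/-- The identification of the composite derived direct images. -/
noncomputable def rpushSqIso :
    DCoh.Rpush g' ⋙ DCoh.Rpush f ≅ DCoh.Rpush f' ⋙ DCoh.Rpush g :=
  haveI := KInjDerived.isRightDerivedFunctor_of_isIso (DCoh.Rpush g' ⋙ DCoh.Rpush f) (unit₁ f g')
    KFlatLib.enoughKInj_modules fun I _ => isIso_unit₁ f g' I
  haveI := KInjDerived.isRightDerivedFunctor_of_isIso (DCoh.Rpush f' ⋙ DCoh.Rpush g) (unit₂ hw)
    KFlatLib.enoughKInj_modules fun I _ => isIso_unit₂ hw I
  Functor.rightDerivedUnique (DCoh.Rpush g' ⋙ DCoh.Rpush f) (DCoh.Rpush f' ⋙ DCoh.Rpush g)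
    (unit₁ f g') (unit₂ hw) (HomotopyCategory.quasiIso X'.Modules (ComplexShape.up ℤ))

theorem rpushSqIso_fac (K : HomotopyCategory X'.Modules (ComplexShape.up ℤ)) :
    (unit₁ f g').app K ≫ (rpushSqIso hw).hom.app (DerivedCategory.Qh.obj K) = (unit₂ hw).app K := by
  haveI := KInjDerived.isRightDerivedFunctor_of_isIso (DCoh.Rpush g' ⋙ DCoh.Rpush f) (unit₁ f g')
    KFlatLib.enoughKInj_modules fun I _ => isIso_unit₁ f g' I
  haveI := KInjDerived.isRightDerivedFunctor_of_isIso (DCoh.Rpush f' ⋙ DCoh.Rpush g) (unit₂ hw)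
    KFlatLib.enoughKInj_modules fun I _ => isIso_unit₂ hw I
  exact (Functor.rightDerivedNatTrans_app (DCoh.Rpush g' ⋙ DCoh.Rpush f)
    (DCoh.Rpush f' ⋙ DCoh.Rpush g) (unit₁ f g') (unit₂ hw)
    (HomotopyCategory.quasiIso X'.Modules (ComplexShape.up ℤ)) (𝟙 _) K).trans (Category.id_comp _)

section Adj

variable [DCoh.HasLpull g] [DCoh.HasLpull g']

/-- The counit of the derived inverse image. -/
noncomputable abbrev pullα (g : S' ⟶ S) [DCoh.HasLpull g] :
    DerivedCategory.Qh ⋙ DCoh.Lpull g ⟶
      KFlatLib.khFunctor (Scheme.Modules.pullback g) :=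
  (KFlatLib.khFunctor (Scheme.Modules.pullback g)).totalLeftDerivedCounit DerivedCategory.Qh
    (HomotopyCategory.quasiIso S.Modules (ComplexShape.up ℤ))

theorem unit_fac (g : S' ⟶ S) [DCoh.HasLpull g] [DCoh.HasRpush g] (K : Cx S) :
    (KFlatLib.lpullRpushAdj g).unit.app ((QhC S).obj K) ≫
        (DCoh.Rpush g).map ((pullα g).app ((qH S).obj K)) =
      (QhC S).map ((cxAdj g).unit.app K) ≫ (pushUnit g).app ((qH S').obj ((pullC g).obj K)) := by
  haveI : (DCoh.Lpull g ⋙ DCoh.Rpush g).IsLeftDerivedFunctor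
      ((Functor.associator _ _ _).inv ≫ Functor.whiskerRight (pullα g) (DCoh.Rpush g))
      (HomotopyCategory.quasiIso S.Modules (ComplexShape.up ℤ)) :=
    KFlatLib.isLeftDerived_of_isIso (F := (Scheme.Modules.pullback g).mapHomotopyCategory
        (ComplexShape.up ℤ) ⋙ DerivedCategory.Qh ⋙ DCoh.Rpush g)
      (fun a hP hQ ha => by
        have h := KFlatLib.isIso_khFunctor_map (KFlatLib.preservesKFlatQis_pull g) a hP hQ ha
        exact ((DCoh.Rpush g).mapIso (@asIso _ _ _ _ _ h)).isIso_hom)
      _ _ (fun K hK => by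
        have := KFlatLib.isIso_counit_of_kFlat (KFlatLib.preservesKFlatQis_pull g) K hK
        simp only [NatTrans.comp_app, Functor.associator_inv_app, Functor.whiskerRight_app,
          Category.id_comp]
        exact Functor.map_isIso (DCoh.Rpush g) _)
  exact (KInjDerived.mapHomotopyCategoryAdj (Scheme.Modules.pullbackPushforwardAdjunction g)
    (ComplexShape.up ℤ)).derivedη_fac_app (HomotopyCategory.quasiIso S.Modules (ComplexShape.up ℤ))
    (pullα g) (pushUnit g) ((qH S).obj K)

/-- Changing the left adjoint does not matter. -/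
theorem isIso_symm_congr {C D : Type*} [Category* C] [Category* D] {L L₀ : C ⥤ D} {R : D ⥤ C}
    (adj : L ⊣ R) (adj₀ : L₀ ⊣ R) {A : C} {B : D} (x : A ⟶ R.obj B)
    (h : IsIso ((adj₀.homEquiv A B).symm x)) : IsIso ((adj.homEquiv A B).symm x) := by
  have : (adj.homEquiv A B).symm x =
      (Adjunction.leftAdjointUniq adj adj₀).hom.app A ≫ (adj₀.homEquiv A B).symm x := by
    apply (adj.homEquiv A B).injective
    rw [Equiv.apply_symm_apply, adj.homEquiv_unit, Functor.map_comp,
      Adjunction.unit_leftAdjointUniq_hom_app_assoc, ← adj₀.homEquiv_unit, Equiv.apply_symm_apply]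
  rw [this]
  infer_instance

theorem isIso_baseChangeApp_congr {adjg adjg₀ : DCoh.Lpull g ⊣ DCoh.Rpush g}
    {adjg' adjg₀' : DCoh.Lpull g' ⊣ DCoh.Rpush g'}
    (e : DCoh.Rpush g' ⋙ DCoh.Rpush f ≅ DCoh.Rpush f' ⋙ DCoh.Rpush g) (K : DCoh.D X)
    (h : IsIso (DCoh.baseChangeApp adjg₀ adjg₀' e K)) :
    IsIso (DCoh.baseChangeApp adjg adjg' e K) := by
  let u := Adjunction.leftAdjointUniq adjg₀' adjg'
  have hu : adjg'.unit.app K = adjg₀'.unit.app K ≫ (DCoh.Rpush g').map (u.hom.app K) :=
    (Adjunction.unit_leftAdjointUniq_hom_app adjg₀' adjg' K).symm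
  have : DCoh.baseChangeApp adjg adjg' e K =
      (adjg.homEquiv _ _).symm ((DCoh.Rpush f).map (adjg₀'.unit.app K) ≫
        e.hom.app ((DCoh.Lpull g').obj K)) ≫ (DCoh.Rpush f').map (u.hom.app K) := by
    rw [DCoh.baseChangeApp, ← Adjunction.homEquiv_naturality_right_symm, hu, Functor.map_comp,
      Category.assoc, Category.assoc]
    congr 2
    exact e.hom.naturality (u.hom.app K)
  rw [this]
  exact @IsIso.comp_isIso _ _ _ _ _ _ _ (isIso_symm_congr adjg adjg₀ _ h) inferInstance

/-- The base change morphism as a natural transformation. -/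
noncomputable def bcNat (e : DCoh.Rpush g' ⋙ DCoh.Rpush f ≅ DCoh.Rpush f' ⋙ DCoh.Rpush g) :
    DCoh.Rpush f ⋙ DCoh.Lpull g ⟶ DCoh.Lpull g' ⋙ DCoh.Rpush f' where
  app K := DCoh.baseChangeApp (KFlatLib.lpullRpushAdj g) (KFlatLib.lpullRpushAdj g') e K
  naturality {K K'} a := by
    simp only [Functor.comp_map, DCoh.baseChangeApp]
    refine ((KFlatLib.lpullRpushAdj g).homEquiv_naturality_left_symm _ _).symm.trans
      (Eq.trans ?_ ((KFlatLib.lpullRpushAdj g).homEquiv_naturality_right_symm _ _))
    congr 1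
    have h₁ := (DCoh.Rpush f).congr_map ((KFlatLib.lpullRpushAdj g').unit.naturality a)
    have h₂ := e.hom.naturality ((DCoh.Lpull g').map a)
    simp only [Functor.id_map, Functor.comp_map, Functor.map_comp] at h₁ h₂
    rw [reassoc_of% h₁, Category.assoc, h₂]

variable [QuasiCompact f] [QuasiSeparated f] (H : IsPullback g' f' f g)

include H in
/-- The base change morphism is an isomorphism at complexes with local models. -/
theorem isIso_bc_of_model {T : Cx X} (hT : DCoh.IsKFlat T)
    (hTq : DCoh.IsQCohD (DerivedCategory.Q.obj T)) (hloc : HasLocModel f g g' T) :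
    IsIso (DCoh.baseChangeApp (KFlatLib.lpullRpushAdj g) (KFlatLib.lpullRpushAdj g')
      (rpushSqIso H.w) ((QhC X).obj T)) := by
  obtain ⟨M, q, hM, hq, hfl⟩ := exists_injRes ((pullC g').obj T)
  haveI := hM
  haveI := hq
  obtain ⟨d, -⟩ := exists_terminal_data g' (wi_of_isKInjective M) hfl ((cxAdj g').homEquiv T M q)
  haveI := quasiIso_bMap H hTq hloc hfl d
  haveI := d.qis
  let L' := (pushC f).obj d.L
  let A := (KFlatLib.resP S).obj L'
  let ψ : A ⟶ L' := (KFlatLib.resψ S).app L'
  haveI : QuasiIso ψ := KFlatLib.quasiIso_resψ _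
  let b := bMap H.w d
  haveI : QuasiIso b := by assumption
  let adj := KFlatLib.lpullRpushAdj g
  let adj' := KFlatLib.lpullRpushAdj g'
  let T₀ := (QhC X).obj T
  let e := rpushSqIso (f := f) (g := g) (f' := f') (g' := g') H.w
  haveI : IsIso ((pullα g').app ((qH X).obj T)) :=
    KFlatLib.isIso_counit_of_kFlat (KFlatLib.preservesKFlatQis_pull g') T hT
  haveI : IsIso ((pullα g).app ((qH S).obj A)) :=
    KFlatLib.isIso_counit_of_kFlat (KFlatLib.preservesKFlatQis_pull g) A (KFlatLib.good_resP L').1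
  haveI : IsIso ((QhC X').map q) := isIso_QhC q
  haveI : IsIso ((QhC X).map d.j) := isIso_QhC d.j
  haveI : IsIso ((QhC S).map ψ) := isIso_QhC ψ
  haveI : IsIso ((QhC S').map b) := isIso_QhC b
  haveI : IsIso ((pushUnit f).app ((qH X).obj d.L)) := isIso_pushUnit_wi f d.wi
  haveI : IsIso ((pushUnit f').app ((qH X').obj M)) := DCohRestrLib.isIso_pushUnit f' M
  let y : (DCoh.Lpull g').obj T₀ ⟶ (QhC X').obj M :=
    (pullα g').app ((qH X).obj T) ≫ (QhC X').map q
  let p : (QhC S).obj A ⟶ (DCoh.Rpush f).obj T₀ :=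
    (QhC S).map ψ ≫ (pushUnit f).app ((qH X).obj d.L) ≫ inv ((DCoh.Rpush f).map ((QhC X).map d.j))
  let x : (DCoh.Rpush f).obj T₀ ⟶ (DCoh.Rpush g).obj ((DCoh.Rpush f').obj ((DCoh.Lpull g').obj T₀)) :=
    (DCoh.Rpush f).map (adj'.unit.app T₀) ≫ e.hom.app ((DCoh.Lpull g').obj T₀)
  have hy : adj'.unit.app T₀ ≫ (DCoh.Rpush g').map y =
      (QhC X).map d.j ≫ (QhC X).map d.χ ≫ (pushUnit g').app ((qH X').obj M) := by
    rw [Functor.map_comp, ← Category.assoc, unit_fac g' T, Category.assoc]
    have h1 := (pushUnit g').naturality ((qH X').map q)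
    simp only [Functor.comp_map] at h1
    have hj : (QhC X).map d.j ≫ (QhC X).map d.χ =
        (QhC X).map ((cxAdj g').unit.app T) ≫ (QhC X).map ((pushC g').map q) := by
      rw [← Functor.map_comp, ← Functor.map_comp]
      have hq' : (qH X).map (d.j ≫ d.χ) = (qH X).map ((cxAdj g').homEquiv T M q) :=
        HomotopyCategory.eq_of_homotopy (d.j ≫ d.χ) _ d.htpy
      refine (congrArg (DerivedCategory.Qh (C := X.Modules)).map hq').trans ?_
      rw [(cxAdj g').homEquiv_unit]
      rfl
    rw [← Category.assoc ((QhC X).map d.j), hj, Category.assoc]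
    exact congrArg ((QhC X).map ((cxAdj g').unit.app T) ≫ ·) h1.symm
  have hx : p ≫ x ≫ (DCoh.Rpush g).map ((DCoh.Rpush f').map y) =
      adj.unit.app ((QhC S).obj A) ≫ (DCoh.Rpush g).map ((pullα g).app ((qH S).obj A) ≫
        (QhC S').map b ≫ (pushUnit f').app ((qH X').obj M)) := by
    have h₂ := e.hom.naturality y
    simp only [Functor.comp_map] at h₂
    simp only [x, p, Category.assoc, ← h₂]
    rw [← Functor.map_comp_assoc, hy, Functor.map_comp, Functor.map_comp, Category.assoc,
      IsIso.inv_hom_id_assoc]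
    have h₃ := (pushUnit f).naturality ((qH X).map d.χ)
    simp only [Functor.comp_map] at h₃
    rw [Category.assoc]
    change (QhC S).map ψ ≫ (pushUnit f).app ((qH X).obj d.L) ≫
      (DCoh.Rpush f).map (DerivedCategory.Qh.map ((qH X).map d.χ)) ≫
        (DCoh.Rpush f).map ((pushUnit g').app ((qH X').obj M)) ≫ e.hom.app _ = _
    rw [← reassoc_of% h₃]
    have h₄ := rpushSqIso_fac (f := f) (g := g) (f' := f') (g' := g') H.w ((qH X').obj M)
    simp only [unit₁, unit₂, Category.assoc] at h₄
    refine (congrArg (fun z => (QhC S).map ψ ≫ DerivedCategory.Qh.map ((pushH f).map ((qH X).map d.χ))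
      ≫ z) h₄).trans ?_
    have h₅ := (pushUnit g).naturality ((qH S').map b)
    simp only [Functor.comp_map] at h₅
    rw [Functor.map_comp, ← Category.assoc (adj.unit.app _), unit_fac g A, Category.assoc,
      Functor.map_comp]
    refine Eq.trans ?_ (congrArg (fun z => (QhC S).map ((cxAdj g).unit.app A) ≫ z)
      ((congrArg (· ≫ (DCoh.Rpush g).map ((pushUnit f').app ((qH X').obj M))) h₅).trans
        (Category.assoc _ _ _)))
    have key : (QhC S).map ψ ≫ (QhC S).map ((pushC f).map d.χ) ≫ (QhC S).map (sqMap H.w M) =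
        (QhC S).map ((cxAdj g).unit.app A) ≫ (QhC S).map ((pushC g).map b) := by
      rw [← Functor.map_comp, ← Functor.map_comp, ← Functor.map_comp]
      refine congrArg (QhC S).map ?_
      exact ((Equiv.apply_symm_apply _ _).symm.trans ((cxAdj g).homEquiv_unit _ _ b))
    have := congrArg (fun z => z ≫ (pushUnit g).app ((pushH f').obj ((qH X').obj M)) ≫
      (DCoh.Rpush g).map ((pushUnit f').app ((qH X').obj M))) key
    simp only [Category.assoc] at this
    exact this.trans (congrArg ((QhC S).map ((cxAdj g).unit.app A) ≫ ·) (Category.assoc _ _ _).symm)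
  have hbc : (DCoh.Lpull g).map p ≫
      DCoh.baseChangeApp adj adj' e T₀ ≫ (DCoh.Rpush f').map y =
      (pullα g).app ((qH S).obj A) ≫ (QhC S').map b ≫ (pushUnit f').app ((qH X').obj M) := by
    change (DCoh.Lpull g).map p ≫ (adj.homEquiv _ _).symm x ≫ (DCoh.Rpush f').map y = _
    rw [← Adjunction.homEquiv_naturality_right_symm, ← Adjunction.homEquiv_naturality_left_symm,
      Equiv.symm_apply_eq, adj.homEquiv_unit]
    exact hx
  haveI : IsIso p := inferInstance
  haveI : IsIso y := inferInstance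
  have h₆ : IsIso ((DCoh.Lpull g).map p ≫
      DCoh.baseChangeApp adj adj' e T₀ ≫ (DCoh.Rpush f').map y) := by
    rw [hbc]
    infer_instance
  have h₇ : IsIso (DCoh.baseChangeApp adj adj' e T₀ ≫ (DCoh.Rpush f').map y) :=
    IsIso.of_isIso_comp_left ((DCoh.Lpull g).map p) _
  exact IsIso.of_isIso_comp_right _ ((DCoh.Rpush f').map y)

include H in
/-- Base change for the canonical identification, given local models. -/
theorem isIso_baseChangeApp (adjg : DCoh.Lpull g ⊣ DCoh.Rpush g)
    (adjg' : DCoh.Lpull g' ⊣ DCoh.Rpush g')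
    (hloc : ∀ T : Cx X, DCoh.IsKFlat T → DCoh.IsQCohD (DerivedCategory.Q.obj T) →
      HasLocModel f g g' T)
    (E : DCoh.D X) (hE : DCoh.IsQCohD E) :
    IsIso (DCoh.baseChangeApp adjg adjg' (rpushSqIso H.w) E) := by
  refine isIso_baseChangeApp_congr (adjg₀ := KFlatLib.lpullRpushAdj g)
    (adjg₀' := KFlatLib.lpullRpushAdj g') (rpushSqIso H.w) E ?_
  obtain ⟨T, hT, ⟨eT⟩⟩ := KFlatLib.exists_good_rep E
  have hTq : DCoh.IsQCohD (DerivedCategory.Q.obj T) := KFlatLib.isQCohD_iso eT.symm hE
  exact (NatTrans.isIso_app_iff_of_iso (bcNat (rpushSqIso H.w))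
    ((DerivedCategory.quotientCompQhIso X.Modules).app T ≪≫ eT)).1
    (isIso_bc_of_model H hT.1 hTq (hloc T hT.1 hTq))

end Adj

end DerBCLib
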