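import Groth.Agent.DerBCLib.Global
import Groth.Agent.RpushLib.FlatBC

/-!
# The base change map of complexes is a quasi-isomorphism
-/

set_option autoImplicit false
set_option backward.isDefEq.respectTransparency false
set_option backward.isDefEq.respectTransparency.types false
set_option maxHeartbeats 1000000
set_option linter.style.haveILetI false

universe u

open CategoryTheory CategoryTheory.Limits AlgebraicGeometry HomologicalComplex Opposite MonoidalCategory
open Groth.Agent Groth.Agent.DerLib Groth.Agent.PerfDualLib Groth.Agent.ProjFormLib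
open RpushLib (secFun resφ)

attribute [local instance] HasDerivedCategory.standard

namespace DerBCLib

variable {X S X' S' : Scheme.{u}} {f : X ⟶ S} {g : S' ⟶ S} {f' : X' ⟶ S'} {g' : X' ⟶ X}

section Square

variable (hw : g' ≫ f = f' ≫ g)

/-- `f_* g'_* ≅ g_* f'_*`. -/
noncomputable def pushSq :
    Scheme.Modules.pushforward g' ⋙ Scheme.Modules.pushforward f ≅
      Scheme.Modules.pushforward f' ⋙ Scheme.Modules.pushforward g :=
  Scheme.Modules.pushforwardComp g' f ≪≫ Scheme.Modules.pushforwardCongr hw ≪≫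
    (Scheme.Modules.pushforwardComp f' g).symm

include hw in
theorem sqOpen (U : S.Opens) : f' ⁻¹ᵁ g ⁻¹ᵁ U = g' ⁻¹ᵁ f ⁻¹ᵁ U :=
  (Scheme.Hom.comp_preimage f' g U).symm.trans
    ((congrArg (fun k => k ⁻¹ᵁ U) hw.symm).trans (Scheme.Hom.comp_preimage g' f U))

theorem pushSq_hom_app_app (M : X'.Modules) (U : S.Opens) (m : Γ(M, g' ⁻¹ᵁ f ⁻¹ᵁ U)) :
    ((pushSq hw).hom.app M).app U m = M.presheaf.map (homOfLE (sqOpen hw U).le).op m := by
  change M.presheaf.map (eqToHom (sqOpen hw U)).op m = _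
  exact congrArg (fun k => M.presheaf.map (Quiver.Hom.op k) m) (Subsingleton.elim _ _)

/-- `f_* g'_* M ⟶ g_* f'_* M` on complexes. -/
noncomputable def sqMap (M : Cx X') :
    (pushC f).obj ((pushC g').obj M) ⟶ (pushC g).obj ((pushC f').obj M) where
  f n := (pushSq hw).hom.app (M.X n)
  comm' i j _ := ((pushSq hw).hom.naturality (M.d i j)).symm

theorem sqMap_natural {M N : Cx X'} (e : M ⟶ N) :
    (pushC f).map ((pushC g').map e) ≫ sqMap hw N = sqMap hw M ≫ (pushC g).map ((pushC f').map e) :=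
  HomologicalComplex.hom_ext _ _ fun n => (pushSq hw).hom.naturality (e.f n)

variable {Z : Cx X} {M : Cx X'} {a : Z ⟶ (pushC g').obj M}

/-- The pushed forward map. -/
noncomputable def sqPush (d : BCData g' a) : (pushC f).obj d.L ⟶ (pushC g).obj ((pushC f').obj M) :=
  (pushC f).map d.χ ≫ sqMap hw M

/-- The base change map of complexes. -/
noncomputable def bMap (d : BCData g' a) :
    (pullC g).obj ((KFlatLib.resP S).obj ((pushC f).obj d.L)) ⟶ (pushC f').obj M :=
  ((cxAdj g).homEquiv _ _).symm ((KFlatLib.resψ S).app ((pushC f).obj d.L) ≫ sqPush hw d)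

end Square

/-- Local models for `Z`. -/
def HasLocModel (f : X ⟶ S) (g : S' ⟶ S) (g' : X' ⟶ X) (Z : Cx X) : Prop :=
  ∀ (US : S.Opens) (_ : IsAffineOpen US) (UT : S'.Opens) (_ : IsAffineOpen UT)
    (hg : UT ≤ g ⁻¹ᵁ US) (V : X.Opens) (_ : IsAffineOpen V) (hVW : V ≤ f ⁻¹ᵁ US),
    ∃ (C W₀ : Cx X) (m : W₀ ⟶ Z) (c : W₀ ⟶ C), (∀ n, LQ (C.X n) V) ∧
      (letI := (g.appLE US UT hg).hom.toAlgebra
       BGood (B := Γ(S', UT)) (𝟙 ((tB Γ(S', UT)).obj ((secC V (f.appLE US V hVW).hom).obj C)))) ∧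
      QisOn V m ∧ QisOn V c ∧ QisOn (g' ⁻¹ᵁ V) ((pullC g').map m) ∧
      QisOn (g' ⁻¹ᵁ V) ((pullC g').map c)

theorem nonempty_rpush_wi [DCoh.HasRpush f] {L : Cx X} (hL : WI L) :
    Nonempty ((DCoh.Rpush f).obj (DerivedCategory.Q.obj L) ≅
      DerivedCategory.Q.obj ((pushC f).obj L)) := by
  obtain ⟨I, i, hI, hi, -⟩ := exists_injRes L
  haveI := hI
  haveI := hi
  haveI := quasiIso_push_wi f hL (wi_of_isKInjective I) i
  obtain ⟨e⟩ := nonempty_push_iso (f := f) I
  exact ⟨(DCoh.Rpush f).mapIso (asIso (DerivedCategory.Q.map i)) ≪≫ e ≪≫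
    (asIso (DerivedCategory.Q.map ((pushC f).map i))).symm⟩

variable [QuasiCompact f] [QuasiSeparated f] (H : IsPullback g' f' f g)

theorem isQCohD_pushL {Z : Cx X} (hZ : DCoh.IsQCohD (DerivedCategory.Q.obj Z)) {M : Cx X'}
    {a : Z ⟶ (pushC g').obj M} (d : BCData g' a) :
    DCoh.IsQCohD (DerivedCategory.Q.obj ((KFlatLib.resP S).obj ((pushC f).obj d.L))) := by
  haveI := DCohRestrLib.hasRpush f
  haveI := d.qis
  obtain ⟨e⟩ := nonempty_rpush_wi (f := f) d.wi
  haveI : QuasiIso ((KFlatLib.resψ S).app ((pushC f).obj d.L)) := KFlatLib.quasiIso_resψ _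
  exact KFlatLib.isQCohD_iso
    (e ≪≫ (asIso (DerivedCategory.Q.map ((KFlatLib.resψ S).app ((pushC f).obj d.L)))).symm)
    (QRlimLib.isQCohD_rpush f (KFlatLib.isQCohD_iso (asIso (DerivedCategory.Q.map d.j)) hZ))

variable {Z : Cx X} (hZ : DCoh.IsQCohD (DerivedCategory.Q.obj Z)) (hloc : HasLocModel f g g' Z)
  {M : Cx X'} [M.IsKInjective] (hfl : QRlimLib.Flasque M) {q : (pullC g').obj Z ⟶ M} [QuasiIso q]
  (d : BCData g' ((cxAdj g').homEquiv Z M q))

include hloc hfl in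
theorem dGood_push {US : S.Opens} (hUS : IsAffineOpen US) {UT : S'.Opens} (hUT : IsAffineOpen UT)
    (hg : UT ≤ g ⁻¹ᵁ US) :
    letI := (g.appLE US UT hg).hom.toAlgebra
    BGood (secBC g (RingHom.id Γ(S, US)) (RingHom.id Γ(S', UT)) hg (fun _ => rfl) (sqPush H.w d)) := by
  letI := (g.appLE US UT hg).hom.toAlgebra
  let W := f ⁻¹ᵁ US
  let O := f' ⁻¹ᵁ UT
  have hO : O ≤ g' ⁻¹ᵁ W := (f'.preimage_mono hg).trans (sqOpen H.w US).le
  let φ : Γ(S, US) →+* Γ(X, W) := (f.app US).hom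
  let φ' : Γ(S', UT) →+* Γ(X', O) := (f'.app UT).hom
  have hφ : ∀ r, g'.appLE W O hO (φ r) = φ' (algebraMap Γ(S, US) Γ(S', UT) r) := fun r => by
    have h := RpushLib.bc_compat H hg (U := O) hO le_rfl
    refine congr($h r).trans ?_
    change (g.appLE US UT hg ≫ f'.appLE UT O le_rfl) r = (g.appLE US UT hg ≫ f'.app UT) r
    rw [← Scheme.Hom.app_eq_appLE]
  have hok : OK g' φ hO φ' hφ d.χ W := by
    refine ok_of_affine g' φ hO φ' hφ d.χ d.fl hfl
      (QuasiCompact.isCompact_preimage (f := f) US US.isOpen hUS.isCompact)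
      (f.isQuasiSeparated_preimage hUS.isQuasiSeparated) fun V hV hVW => ?_
    obtain ⟨C, W₀, m, c, hC, hB, hm, hcV, hm', hc'⟩ := hloc US hUS UT hUT hg V hV hVW
    exact ok_of_model g' φ hO φ' hφ hV (RpushLib.isAffineOpen_fibre H hUS hUT hg hV hVW)
      (fun _ => RpushLib.isPushout_sections H hUS hUT hg hV hVW) hC (fun _ => hB) hm hcV hm' hc' hfl d
      hVW
  let U' := g' ⁻¹ᵁ W ⊓ O
  let P₁ := NatTrans.mapHomologicalComplex (pullNat f (RingHom.id Γ(S, US)) (resφ φ (le_refl W))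
    (le_refl W) fun r => by
      change f.appLE US W le_rfl r = (f.app US ≫ X.presheaf.map _) r
      rfl) (ComplexShape.up ℤ)
  let σ := φ'.comp (algebraMap Γ(S, US) Γ(S', UT))
  let P₂ := NatTrans.mapHomologicalComplex (pullNat f'
    (restr (R := Γ(S, US)) Γ(S', UT) (RingHom.id Γ(S', UT)))
    (resφ σ (inf_le_right : U' ≤ O)) (inf_le_right : U' ≤ O) fun r => rfl) (ComplexShape.up ℤ)
  have hU' : U' = O := inf_eq_right.2 hO
  haveI : ∀ K, IsIso (P₁.app K) := fun K => by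
    haveI : ∀ n, IsIso ((P₁.app K).f n) := fun n => by
      rw [ConcreteCategory.isIso_iff_bijective]
      change Function.Bijective ((K.X n).presheaf.map (homOfLE (le_refl W)).op)
      rw [show (homOfLE (le_refl W)).op = 𝟙 _ from rfl, CategoryTheory.Functor.map_id]
      exact Function.bijective_id
    exact HomologicalComplex.Hom.isIso_of_components _
  haveI : ∀ K, IsIso (P₂.app K) := fun K => by
    haveI : ∀ n, IsIso ((P₂.app K).f n) := fun n => by
      rw [ConcreteCategory.isIso_iff_bijective]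
      haveI : IsIso ((K.X n).presheaf.map (homOfLE (inf_le_right : U' ≤ O)).op) := by
        rw [Subsingleton.elim (homOfLE (inf_le_right : U' ≤ O)) (eqToHom hU')]
        infer_instance
      exact ConcreteCategory.bijective_of_isIso
        ((K.X n).presheaf.map (homOfLE (inf_le_right : U' ≤ O)).op)
    exact HomologicalComplex.Hom.isIso_of_components _
  refine (bGood_iff_of_square _ (bcAt g' φ hO φ' hφ d.χ (le_refl W)) (P₁.app d.L) (P₂.app M)
    (Homotopy.ofEq ?_)).1 (hok le_rfl)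
  refine HomologicalComplex.hom_ext _ _ fun n => ModuleCat.hom_ext (TensorProduct.ext' fun b x => ?_)
  let x₀ : Γ(d.L.X n, W) := x
  let z : Γ(M.X n, g' ⁻¹ᵁ W) := (d.χ.f n).app W x₀
  change resφ φ' (inf_le_right : U' ≤ O) b • (M.X n).presheaf.map (homOfLE inf_le_left).op
      ((d.χ.f n).app W ((d.L.X n).presheaf.map (homOfLE (le_refl W)).op x₀)) =
    (M.X n).presheaf.map (homOfLE (inf_le_right : U' ≤ O)).op
      (φ' b • (M.X n).presheaf.map (homOfLE (f'.preimage_mono hg)).op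
        (((pushSq H.w).hom.app (M.X n)).app US z))
  rw [pushSq_hom_app_app, Scheme.Modules.map_smul]
  refine congrArg (resφ φ' (inf_le_right : U' ≤ O) b • ·) ?_
  rw [show (homOfLE (le_refl W)).op = 𝟙 _ from rfl, CategoryTheory.Functor.map_id]
  refine Eq.symm ((QCohLib.map_map' (M.X n) _ _ _).trans ((QCohLib.map_map' (M.X n) _ _ _).trans ?_))
  exact congrArg (fun i => (M.X n).presheaf.map (Quiver.Hom.op i) z) (Subsingleton.elim _ _)

include H hZ hloc hfl in
/-- The base change map is a quasi-isomorphism. -/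
theorem quasiIso_bMap : QuasiIso (bMap H.w d) := by
  let L' := (pushC f).obj d.L
  let A := (KFlatLib.resP S).obj L'
  let ψA : A ⟶ L' := (KFlatLib.resψ S).app L'
  haveI : QuasiIso ψA := KFlatLib.quasiIso_resψ _
  have hA : DCoh.IsQCohD (DerivedCategory.Q.obj A) := isQCohD_pushL hZ d
  have hAflat : DCoh.IsKFlat A := (KFlatLib.good_resP L').1
  let M' := (pushC f').obj M
  have hM' : WI M' := (wi_of_isKInjective M).push f'
  obtain ⟨R₁, ρ, hR₁, hρ, hfl₁⟩ := exists_injRes ((pullC g).obj A)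
  obtain ⟨R₂, κ, hR₂, hκ, hfl₂⟩ := exists_injRes M'
  haveI := hR₁
  haveI := hρ
  haveI := hR₂
  haveI := hκ
  let b := bMap H.w d
  obtain ⟨e, ⟨He⟩⟩ := exists_lift_homotopy ρ (b ≫ κ)
  suffices QuasiIso e by
    haveI : QuasiIso (b ≫ κ) := (quasiIso_congr_cx He).1 (quasiIso_comp _ _)
    exact quasiIso_of_comp_right b κ
  refine quasiIso_of_sec e fun x N hxN => ?_
  obtain ⟨US, hUS, hxS, -⟩ := exists_isAffineOpen_mem_and_subset
    (x := g x) (U := ⊤) trivial
  obtain ⟨UT, hUT, hxT, hUTle⟩ := exists_isAffineOpen_mem_and_subset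
    (x := x) (U := N ⊓ g ⁻¹ᵁ US) ⟨hxN, hxS⟩
  have hg : UT ≤ g ⁻¹ᵁ US := fun y hy => (hUTle hy).2
  refine ⟨UT, hxT, fun y hy => (hUTle hy).1, ?_⟩
  letI := (g.appLE US UT hg).hom.toAlgebra
  let φ := RingHom.id Γ(S, US)
  let ψ := RingHom.id Γ(S', UT)
  have hc : ∀ r, g.appLE US UT hg (φ r) = restr (R := Γ(S, US)) Γ(S', UT) ψ r := fun _ => rfl
  let a₁ := (cxAdj g).homEquiv A R₁ ρ
  let am : A ⟶ (pushC g).obj M' := ψA ≫ sqPush H.w d
  let a₂ : A ⟶ (pushC g).obj R₂ := am ≫ (pushC g).map κ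
  obtain ⟨d₁, -⟩ := exists_terminal_data g (wi_of_isKInjective R₁) hfl₁ a₁
  obtain ⟨dm, -⟩ := exists_terminal_data g hM' (flasque_push f' hfl) am
  obtain ⟨d₂, -⟩ := exists_terminal_data g (wi_of_isKInjective R₂) hfl₂ a₂
  let d' : BCData g (sqPush H.w d) :=
  { L := L', j := 𝟙 _, qis := inferInstance, wi := d.wi.push f, fl := flasque_push f d.fl,
    χ := sqPush H.w d, htpy := Homotopy.ofEq (Category.id_comp _) }
  have h' : DGood φ ψ hg hc d' := dGood_push H hloc hfl d hUS hUT hg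
  have hm : DGood φ ψ hg hc dm :=
    (dGood_iff φ ψ hg hc d' dm hM' hM' (flasque_push f' hfl) ψA (𝟙 M')
      (Homotopy.ofEq (by rw [CategoryTheory.Functor.map_id, Category.comp_id]))
      (QisOn.of_quasiIso US ψA) (QisOn.of_quasiIso UT (𝟙 M'))).2 h'
  have h₂ : DGood φ ψ hg hc d₂ :=
    (dGood_iff φ ψ hg hc d₂ dm (wi_of_isKInjective R₂) hM' hfl₂ (𝟙 A) κ
      (Homotopy.ofEq (Category.id_comp _).symm)
      (QisOn.of_quasiIso US (𝟙 A)) (QisOn.of_quasiIso UT κ)).1 hm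
  obtain ⟨P, W₀, m, c, hP, hW₀, hmV, hcV⟩ := exists_chart hUS A hA
  have hB : BGood (B := Γ(S', UT))
      (𝟙 ((tB Γ(S', UT)).obj ((secC US φ).obj ((chC hUS).obj P)))) := by
    let Q := projectiveResolution (Bm (R := Γ(S, US)) Γ(S', UT))
    haveI : Module.Flat Γ(S, US) ((ModuleCat.restrictScalars φ).obj (𝟙_ (ModuleCat.{u} Γ(S, US)))) :=
      inferInstanceAs (Module.Flat Γ(S, US) Γ(S, US))
    exact bGood_id_chC φ hUS Q (quasiIso_tensorLeft_flat Q.π') hP
  have hpo : IsPushout (CommRingCat.ofHom φ) (CommRingCat.ofHom (algebraMap Γ(S, US) Γ(S', UT)))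
      (g.appLE US UT hg) (CommRingCat.ofHom ψ) := by
    haveI : IsIso (CommRingCat.ofHom φ) := inferInstanceAs (IsIso (𝟙 (Γ(S, US) : CommRingCat.{u})))
    haveI : IsIso (CommRingCat.ofHom ψ) := inferInstanceAs (IsIso (𝟙 (Γ(S', UT) : CommRingCat.{u})))
    exact IsPushout.of_horiz_isIso ⟨rfl⟩
  have h₁ : DGood φ ψ hg hc d₁ :=
    dGood_of_model φ ψ hg hc hUS hUT hpo (fun n => lq_chF hUS _) hB hmV hcV
      (fun y hy => qisOn_pull_kf g (kfOn_of_isKFlat US hW₀) (kfOn_of_isKFlat US hAflat) hmV y (hg hy))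
      (fun y hy => qisOn_pull_kf g (kfOn_of_isKFlat US hW₀) (kfOn_chC hUS hP) hcV y (hg hy))
      hfl₁ (QisOn.of_quasiIso UT ρ) d₁
  have K : Homotopy (a₁ ≫ (pushC g).map e) (𝟙 A ≫ a₂) :=
    (Homotopy.ofEq ((cxAdj g).homEquiv_naturality_right ρ e).symm).trans
      ((homEquivHomotopy g He).trans (Homotopy.ofEq (by
        rw [Category.id_comp, (cxAdj g).homEquiv_naturality_right]
        exact congrArg (· ≫ (pushC g).map κ) (Equiv.apply_symm_apply _ _))))
  exact quasiIso_secC_restr _ _ e (quasiIso_sec_of_dGood φ ψ hg hc d₂ d₁ (wi_of_isKInjective R₂)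
    hfl₂ (𝟙 A) e K (QisOn.of_quasiIso US (𝟙 A)) h₂ h₁)

end DerBCLib
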