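import Groth.Agent.DRingLib.ResolProps
import Groth.Agent.KFlatLib.AlgMore
import Groth.Agent.PerfDualLib.TwoOfThree
import Mathlib.Algebra.Homology.HomotopyCategory.ShortExact
import Mathlib.Algebra.Homology.HomotopyCategory.ShiftSequence

/-!
# Derived base change maps of complexes of modules

For an `R`-algebra `B`, a map `θ : B ⊗ N ⟶ N'` of complexes of `R`-modules is good if it is a
quasi-isomorphism after replacing `N` by a K-flat complex.
-/

set_option autoImplicit false
set_option backward.isDefEq.respectTransparency false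
set_option linter.style.haveILetI false

universe u

open CategoryTheory CategoryTheory.Limits HomologicalComplex MonoidalCategory
open CochainComplex (mappingCone)
open KFlatLib (DegSplit)
open Groth.Agent

namespace DerBCLib

variable {R : Type u} [CommRing R] (B : Type u) [CommRing B] [Algebra R B]

/-- `B` as an `R`-module. -/
noncomputable abbrev Bm : ModuleCat.{u} R := ModuleCat.of R B

/-- `B ⊗ -` on complexes. -/
noncomputable abbrev tB :
    CochainComplex (ModuleCat.{u} R) ℤ ⥤ CochainComplex (ModuleCat.{u} R) ℤ :=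
  (tensorLeft (Bm (R := R) B)).mapHomologicalComplex (ComplexShape.up ℤ)

variable {B}

theorem quasiIso_tB {P Q : CochainComplex (ModuleCat.{u} R) ℤ} (hP : DRing.IsKFlat R P)
    (hQ : DRing.IsKFlat R Q) (g : P ⟶ Q) [QuasiIso g] : QuasiIso ((tB B).map g) := by
  refine (KFlatLib.acyclic_cone_iff _).1 fun i => ?_
  exact (KFlatLib.acyclic_tensorLeft (KFlatLib.isKFlat_mappingCone hP hQ g)
    ((KFlatLib.acyclic_cone_iff g).2 inferInstance) (Bm B) i).of_iso
      ((HomologicalComplex.homologyFunctor _ _ i).mapIso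
        (CochainComplex.mappingCone.mapHomologicalComplexIso g (tensorLeft (Bm B))).symm)

variable {N N' : CochainComplex (ModuleCat.{u} R) ℤ}

/-- The derived map is a quasi-isomorphism. -/
def BGood (θ : (tB B).obj N ⟶ N') : Prop :=
  QuasiIso ((tB B).map ((DRingLib.resψ R).app N) ≫ θ)

theorem quasiIso_resP_map {P N : CochainComplex (ModuleCat.{u} R) ℤ} (p : P ⟶ N) [QuasiIso p] :
    QuasiIso ((DRingLib.resP R).map p) := by
  haveI := DRingLib.quasiIso_resψ P
  haveI := DRingLib.quasiIso_resψ N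
  haveI : QuasiIso ((DRingLib.resP R).map p ≫ (DRingLib.resψ R).app N) := by
    rw [(DRingLib.resψ R).naturality p]
    change QuasiIso ((DRingLib.resψ R).app P ≫ p)
    exact quasiIso_comp _ _
  exact quasiIso_of_comp_right _ ((DRingLib.resψ R).app N)

/-- Any K-flat resolution computes. -/
theorem bGood_iff_flat (θ : (tB B).obj N ⟶ N') {P : CochainComplex (ModuleCat.{u} R) ℤ}
    (hP : DRing.IsKFlat R P) (p : P ⟶ N) [QuasiIso p] :
    BGood θ ↔ QuasiIso ((tB B).map p ≫ θ) := by
  haveI := DRingLib.quasiIso_resψ P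
  haveI := quasiIso_resP_map p
  haveI := quasiIso_tB (B := B) (DRingLib.good_resP P).1 hP ((DRingLib.resψ R).app P)
  haveI := quasiIso_tB (B := B) (DRingLib.good_resP P).1 (DRingLib.good_resP N).1
    ((DRingLib.resP R).map p)
  have h : (tB B).map ((DRingLib.resP R).map p) ≫ (tB B).map ((DRingLib.resψ R).app N) ≫ θ =
      (tB B).map ((DRingLib.resψ R).app P) ≫ (tB B).map p ≫ θ := by
    rw [← Functor.map_comp_assoc, ← Functor.map_comp_assoc, (DRingLib.resψ R).naturality p]
    rfl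
  unfold BGood
  rw [← quasiIso_iff_comp_left ((tB B).map ((DRingLib.resP R).map p)), h, quasiIso_iff_comp_left]

theorem quasiIso_congr_homotopy {K L : CochainComplex (ModuleCat.{u} R) ℤ} {a b : K ⟶ L}
    (h : Homotopy a b) : QuasiIso a ↔ QuasiIso b := by
  simp only [quasiIso_iff, quasiIsoAt_iff_isIso_homologyMap, h.homologyMap_eq]

variable {N₂ N₂' : CochainComplex (ModuleCat.{u} R) ℤ} (θ : (tB B).obj N ⟶ N')
  (θ₂ : (tB B).obj N₂ ⟶ N₂') (u₀ : N ⟶ N₂) (v : N' ⟶ N₂')

theorem quasiIso_square_iff [QuasiIso u₀] (w : Homotopy ((tB B).map u₀ ≫ θ₂) (θ ≫ v)) :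
    BGood θ₂ ↔ QuasiIso (((tB B).map ((DRingLib.resψ R).app N) ≫ θ) ≫ v) := by
  haveI := DRingLib.quasiIso_resψ N
  rw [bGood_iff_flat θ₂ (DRingLib.good_resP N).1 ((DRingLib.resψ R).app N ≫ u₀),
    Functor.map_comp, Category.assoc, Category.assoc]
  exact quasiIso_congr_homotopy (w.compLeft _)

/-- Invariance. -/
theorem bGood_iff_of_square [QuasiIso u₀] [QuasiIso v]
    (w : Homotopy ((tB B).map u₀ ≫ θ₂) (θ ≫ v)) : BGood θ₂ ↔ BGood θ :=
  (quasiIso_square_iff θ θ₂ u₀ v w).trans (quasiIso_iff_comp_right _ v)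

/-- Both sides good: the target map is a quasi-isomorphism. -/
theorem quasiIso_of_square [QuasiIso u₀] (w : Homotopy ((tB B).map u₀ ≫ θ₂) (θ ≫ v))
    (h : BGood θ) (h₂ : BGood θ₂) : QuasiIso v := by
  haveI : QuasiIso ((tB B).map ((DRingLib.resψ R).app N) ≫ θ) := h
  haveI := (quasiIso_square_iff θ θ₂ u₀ v w).1 h₂
  exact quasiIso_of_comp_left ((tB B).map ((DRingLib.resψ R).app N) ≫ θ) v

/-- Functoriality of the rotated triangle of a cone. -/
noncomputable def rotMap {K L K' L' : CochainComplex (ModuleCat.{u} R) ℤ} (φ : K ⟶ L) (φ' : K' ⟶ L')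
    (a : K ⟶ K') (b : L ⟶ L') (comm : φ ≫ b = a ≫ φ') :
    CochainComplex.mappingCone.triangleRotateShortComplex φ ⟶
      CochainComplex.mappingCone.triangleRotateShortComplex φ' :=
  ⟨b, CochainComplex.mappingCone.map φ φ' a b comm, a⟦(1 : ℤ)⟧',
    (CochainComplex.mappingCone.triangleMap φ φ' a b comm).comm₂.symm,
    (CochainComplex.mappingCone.triangleMap φ φ' a b comm).comm₃.symm⟩

/-- A short exact sequence: the first is good if the others are. -/
theorem bGood_three {S S' : ShortComplex (CochainComplex (ModuleCat.{u} R) ℤ)} (hS : S.ShortExact)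
    (hS' : S'.ShortExact) (θ₁ : (tB B).obj S.X₁ ⟶ S'.X₁) (θ₂ : (tB B).obj S.X₂ ⟶ S'.X₂)
    (θ₃ : (tB B).obj S.X₃ ⟶ S'.X₃) (hf : (tB B).map S.f ≫ θ₂ = θ₁ ≫ S'.f)
    (hg : (tB B).map S.g ≫ θ₃ = θ₂ ≫ S'.g) (h₂ : BGood θ₂) (h₃ : BGood θ₃) : BGood θ₁ := by
  let P₁ := (DRingLib.resP R).obj S.X₁
  let P₂ := (DRingLib.resP R).obj S.X₂
  let Pf := (DRingLib.resP R).map S.f
  let q₁ := (tB B).map ((DRingLib.resψ R).app S.X₁) ≫ θ₁
  let q₂ := (tB B).map ((DRingLib.resψ R).app S.X₂) ≫ θ₂
  haveI := DRingLib.quasiIso_resψ S.X₁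
  haveI := DRingLib.quasiIso_resψ S.X₂
  have hP : Pf ≫ (DRingLib.resψ R).app S.X₂ = (DRingLib.resψ R).app S.X₁ ≫ S.f :=
    (DRingLib.resψ R).naturality S.f
  let π : mappingCone Pf ⟶ mappingCone S.f :=
    CochainComplex.mappingCone.map Pf S.f ((DRingLib.resψ R).app S.X₁)
      ((DRingLib.resψ R).app S.X₂) hP
  haveI : QuasiIso π := PerfDualLib.quasiIso_τ₂ (rotMap Pf S.f _ _ hP)
    (KFlatLib.shortExact_of_degSplit
      (CochainComplex.mappingCone.triangleRotateShortComplexSplitting Pf))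
    (KFlatLib.shortExact_of_degSplit
      (CochainComplex.mappingCone.triangleRotateShortComplexSplitting S.f))
    (DRingLib.quasiIso_resψ S.X₂) ((CochainComplex.quasiIso_shift_iff _ 1).2 inferInstance)
  haveI := CochainComplex.mappingCone.quasiIso_descShortComplex hS
  haveI := CochainComplex.mappingCone.quasiIso_descShortComplex hS'
  have hq : (tB B).map Pf ≫ q₂ = q₁ ≫ S'.f := by
    simp only [q₁, q₂, Category.assoc, ← hf]
    rw [← Functor.map_comp_assoc, ← Functor.map_comp_assoc, hP]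
  let e := CochainComplex.mappingCone.mapHomologicalComplexIso Pf (tensorLeft (Bm (R := R) B))
  let qc : mappingCone ((tB B).map Pf) ⟶ mappingCone S'.f :=
    CochainComplex.mappingCone.map _ _ q₁ q₂ hq
  have key : (tB B).map (π ≫ CochainComplex.mappingCone.descShortComplex S) ≫ θ₃ =
      e.hom ≫ qc ≫ CochainComplex.mappingCone.descShortComplex S' := by
    rw [← cancel_epi e.inv, Iso.inv_hom_id_assoc]
    refine HomologicalComplex.hom_ext _ _ fun n => ?_
    refine (CochainComplex.mappingCone.ext_from_iff ((tB B).map Pf) (n + 1) n rfl _ _).2 ⟨?_, ?_⟩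
    · dsimp [π, qc, e, q₁, q₂, CochainComplex.mappingCone.map,
        CochainComplex.mappingCone.mapHomologicalComplexIso]
      simp only [HomologicalComplex.Hom.isoOfComponents_inv_f,
        CochainComplex.mappingCone.mapHomologicalComplexXIso_eq Pf (tensorLeft (Bm (R := R) B)) n (n + 1) rfl,
        CochainComplex.mappingCone.mapHomologicalComplexXIso'_inv]
      simp
      rw [← MonoidalCategory.whiskerLeft_comp_assoc, ← MonoidalCategory.whiskerLeft_comp_assoc]
      simp
    · dsimp [π, qc, e, q₁, q₂, CochainComplex.mappingCone.map,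
        CochainComplex.mappingCone.mapHomologicalComplexIso]
      simp only [HomologicalComplex.Hom.isoOfComponents_inv_f,
        CochainComplex.mappingCone.mapHomologicalComplexXIso_eq Pf (tensorLeft (Bm (R := R) B)) n (n + 1) rfl,
        CochainComplex.mappingCone.mapHomologicalComplexXIso'_inv]
      have hg' := congr_arg (fun k => Hom.f k n) hg
      simp at hg' ⊢
      rw [← MonoidalCategory.whiskerLeft_comp_assoc, ← MonoidalCategory.whiskerLeft_comp_assoc]
      simp [← hg']
  haveI : QuasiIso ((tB B).map (π ≫ CochainComplex.mappingCone.descShortComplex S) ≫ θ₃) :=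
    (bGood_iff_flat θ₃ (KFlatLib.isKFlat_mappingCone (DRingLib.good_resP S.X₁).1
      (DRingLib.good_resP S.X₂).1 Pf) _).1 h₃
  haveI : QuasiIso qc := by
    haveI : QuasiIso (e.hom ≫ qc ≫ CochainComplex.mappingCone.descShortComplex S') := by
      rw [← key]; infer_instance
    haveI := quasiIso_of_comp_left e.hom (qc ≫ CochainComplex.mappingCone.descShortComplex S')
    exact quasiIso_of_comp_right qc (CochainComplex.mappingCone.descShortComplex S')
  have h3 : QuasiIso (q₁⟦(1 : ℤ)⟧') := HomologicalComplex.HomologySequence.quasiIso_τ₃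
    (rotMap ((tB B).map Pf) S'.f q₁ q₂ hq)
    (KFlatLib.shortExact_of_degSplit
      (CochainComplex.mappingCone.triangleRotateShortComplexSplitting ((tB B).map Pf)))
    (KFlatLib.shortExact_of_degSplit
      (CochainComplex.mappingCone.triangleRotateShortComplexSplitting S'.f)) h₂ ‹QuasiIso qc›
  exact (CochainComplex.quasiIso_shift_iff q₁ 1).1 h3

/-- Biproducts. -/
theorem bGood_biprod {N₁ N₁' : CochainComplex (ModuleCat.{u} R) ℤ} (θ₁ : (tB B).obj N ⟶ N')
    (θ₂ : (tB B).obj N₁ ⟶ N₁') (θ₁₂ : (tB B).obj (N ⊞ N₁) ⟶ N' ⊞ N₁')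
    (hf : (tB B).map biprod.inl ≫ θ₁₂ = θ₁ ≫ biprod.inl)
    (hg : (tB B).map biprod.snd ≫ θ₂ = θ₁₂ ≫ biprod.snd) (h₁ : BGood θ₁) (h₂ : BGood θ₂) :
    BGood θ₁₂ := by
  have sp : ∀ (A C : CochainComplex (ModuleCat.{u} R) ℤ),
      DegSplit (ShortComplex.mk (biprod.inl : A ⟶ A ⊞ C) biprod.snd biprod.inl_snd) := fun A C n =>
    ShortComplex.Splitting.map
      { r := biprod.fst, s := biprod.inr, f_r := biprod.inl_fst, s_g := biprod.inr_snd,
        id := biprod.total } (eval _ (ComplexShape.up ℤ) n)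
  let P := (DRingLib.resP R).obj N
  let P₁ := (DRingLib.resP R).obj N₁
  let p : P ⊞ P₁ ⟶ N ⊞ N₁ := biprod.map ((DRingLib.resψ R).app N) ((DRingLib.resψ R).app N₁)
  haveI := DRingLib.quasiIso_resψ N
  haveI := DRingLib.quasiIso_resψ N₁
  let φ₀ : ShortComplex.mk (biprod.inl : P ⟶ P ⊞ P₁) biprod.snd biprod.inl_snd ⟶
      ShortComplex.mk (biprod.inl : N ⟶ N ⊞ N₁) biprod.snd biprod.inl_snd :=
    ⟨(DRingLib.resψ R).app N, p, (DRingLib.resψ R).app N₁, by simp [p], by simp [p]⟩
  haveI : QuasiIso p := PerfDualLib.quasiIso_τ₂ φ₀ (KFlatLib.shortExact_of_degSplit (sp _ _))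
    (KFlatLib.shortExact_of_degSplit (sp _ _)) inferInstance inferInstance
  refine (bGood_iff_flat θ₁₂ (KFlatLib.isKFlat_X₂_of_degSplit (sp P P₁) (DRingLib.good_resP N).1
    (DRingLib.good_resP N₁).1) p).2 ?_
  let φ : (ShortComplex.mk (biprod.inl : P ⟶ P ⊞ P₁) biprod.snd biprod.inl_snd).map (tB B) ⟶
      ShortComplex.mk (biprod.inl : N' ⟶ N' ⊞ N₁') biprod.snd biprod.inl_snd :=
    ⟨(tB B).map ((DRingLib.resψ R).app N) ≫ θ₁, (tB B).map p ≫ θ₁₂,
      (tB B).map ((DRingLib.resψ R).app N₁) ≫ θ₂,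
      by
        change _ = (tB B).map biprod.inl ≫ (tB B).map p ≫ θ₁₂
        rw [Category.assoc, ← hf, ← Functor.map_comp_assoc, ← Functor.map_comp_assoc]
        simp [p],
      by
        change _ = (tB B).map biprod.snd ≫ (tB B).map ((DRingLib.resψ R).app N₁) ≫ θ₂
        rw [Category.assoc, ← hg, ← Functor.map_comp_assoc, ← Functor.map_comp_assoc]
        simp [p]
        rfl⟩
  exact PerfDualLib.quasiIso_τ₂ φ
    (KFlatLib.shortExact_of_degSplit fun n => ((sp P P₁) n).map (tensorLeft (Bm (R := R) B)))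
    (KFlatLib.shortExact_of_degSplit (sp _ _)) h₁ h₂

end DerBCLib
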