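import Groth.Agent.DerBCLib.Sec
import Groth.Agent.DerLib.KInjRes
import Groth.Agent.KFlatLib.LpullAdj

/-!
# Base change data

For `a : Z ⟶ g_* M` we choose `Z ⟶ L` computing derived sections, with a strict map `L ⟶ g_* M`.
-/

set_option autoImplicit false
set_option backward.isDefEq.respectTransparency false
set_option backward.isDefEq.respectTransparency.types false
set_option maxHeartbeats 1000000
set_option linter.style.haveILetI false

universe u

open CategoryTheory CategoryTheory.Limits AlgebraicGeometry HomologicalComplex Opposite Pretriangulated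
open Groth.Agent Groth.Agent.DerLib Groth.Agent.PerfDualLib Groth.Agent.ProjFormLib
open CochainComplex (mappingCone mappingCocone)
open CochainComplex.HomComplex (Cochain δ_ofHomotopy δ_neg)

attribute [local instance] HasDerivedCategory.standard

namespace DerBCLib

variable {X X' : Scheme.{u}}

theorem exists_injRes (Z : Cx X) :
    ∃ (I : Cx X) (i : Z ⟶ I), I.IsKInjective ∧ QuasiIso i ∧ QRlimLib.Flasque I := by
  haveI : IsGrothendieckAbelian.{u} X.Modules :=
    inferInstanceAs (IsGrothendieckAbelian.{u} (SheafOfModules.{u} X.ringCatSheaf))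
  obtain ⟨I, i, hI, hi, hinj⟩ := KInjRes.exists_resolution Z
  haveI := hinj
  exact ⟨I, i, hI, (HomologicalComplex.mem_quasiIso_iff _).1 hi.2, QRlimLib.flasque_of_injective I⟩

theorem flasque_push (g : X' ⟶ X) {M : Cx X'} (h : QRlimLib.Flasque M) :
    QRlimLib.Flasque ((pushC g).obj M) := fun n _ _ hle => h n (g.preimage_mono hle)

theorem flasque_split {S : ShortComplex X.Modules} (s : S.Splitting)
    (h₁ : ∀ {P Q : X.Opens} (h : P ≤ Q), Function.Surjective (S.X₁.presheaf.map (homOfLE h).op))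
    (h₃ : ∀ {P Q : X.Opens} (h : P ≤ Q), Function.Surjective (S.X₃.presheaf.map (homOfLE h).op))
    {P Q : X.Opens} (h : P ≤ Q) : Function.Surjective (S.X₂.presheaf.map (homOfLE h).op) := fun z => by
  obtain ⟨a, ha⟩ := h₁ h (s.r.app P z)
  obtain ⟨c, hc⟩ := h₃ h (S.g.app P z)
  refine ⟨S.f.app Q a + s.s.app Q c, ?_⟩
  refine (map_add (S.X₂.presheaf.map (homOfLE h).op).hom _ _).trans ?_
  refine Eq.trans ?_ (congrArg (fun k : S.X₂ ⟶ S.X₂ => k.app P z) s.id)
  exact congrArg₂ (· + ·) ((QCohLib.app_map S.f (homOfLE h) a).symm.trans (congrArg (S.f.app P) ha))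
    ((QCohLib.app_map s.s (homOfLE h) c).symm.trans (congrArg (s.s.app P) hc))

theorem flasque_cocone {K R₃ : Cx X} (d : K ⟶ R₃) (hK : QRlimLib.Flasque K)
    (hR : QRlimLib.Flasque R₃) : QRlimLib.Flasque (mappingCocone d) := fun n _ _ h =>
  flasque_split (S := (CochainComplex.mappingCone.triangleRotateShortComplex d).map
      (eval _ (ComplexShape.up ℤ) (n + -1)))
    (CochainComplex.mappingCone.triangleRotateShortComplexSplitting d (n + -1))
    (fun h => hR _ h) (fun h => hK _ h) h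

theorem flasque_biprod {K L : Cx X} (hK : QRlimLib.Flasque K) (hL : QRlimLib.Flasque L) :
    QRlimLib.Flasque (K ⊞ L) := fun n _ _ h =>
  flasque_split (S := (ShortComplex.mk (biprod.inl : K ⟶ K ⊞ L) biprod.snd biprod.inl_snd).map
      (eval _ (ComplexShape.up ℤ) n))
    (ShortComplex.Splitting.map
      { r := biprod.fst, s := biprod.inr, f_r := biprod.inl_fst, s_g := biprod.inr_snd,
        id := biprod.total } (eval _ (ComplexShape.up ℤ) n))
    (fun h => hK _ h) (fun h => hL _ h) h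

/-- The first projection of a homotopy fibre product along a quasi-isomorphism. -/
theorem quasiIso_cocone_fst {I G R₃ : Cx X} (χ : I ⟶ R₃) (i₃ : G ⟶ R₃) [QuasiIso i₃] :
    QuasiIso (CochainComplex.mappingCocone.fst (biprod.desc χ (-i₃)) ≫ biprod.fst) := by
  let d := biprod.desc χ (-i₃)
  let T := DerivedCategory.Q.mapTriangle.obj (CochainComplex.mappingCocone.triangle d)
  have hT := DerivedCategory.mappingCocone_triangle_distinguished d
  let Q := DerivedCategory.Q (C := X.Modules)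
  let x := inv (Q.map i₃)
  have h1 : Q.map (biprod.inr : G ⟶ I ⊞ G) ≫ Q.map d = -Q.map i₃ := by
    rw [← Functor.map_comp, biprod.inr_desc, Functor.map_neg]
  have h2 : Q.map (biprod.inl : I ⟶ I ⊞ G) ≫ Q.map d = Q.map χ := by
    rw [← Functor.map_comp, biprod.inl_desc]
  have h3 : T.mor₃ = 0 := by
    have : T.mor₂ ≫ T.mor₃ = 0 := comp_distTriang_mor_zero₂₃ _ hT
    have h4 : (-x ≫ Q.map (biprod.inr : G ⟶ I ⊞ G)) ≫ T.mor₂ = 𝟙 T.obj₃ := by
      change (-x ≫ Q.map (biprod.inr : G ⟶ I ⊞ G)) ≫ Q.map d = 𝟙 (Q.obj R₃)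
      rw [Preadditive.neg_comp, Category.assoc, h1, Preadditive.comp_neg, neg_neg]
      exact IsIso.inv_hom_id _
    rw [← Category.id_comp T.mor₃, ← h4, Category.assoc, this, comp_zero]
  refine (DerivedCategory.isIso_Q_map_iff_quasiIso _ _).1 ?_
  refine isIso_of_yoneda_map_bijective _ fun W => ⟨fun a b hab => ?_, fun w => ?_⟩
  · rw [← sub_eq_zero]
    have hz : (a - b) ≫ Q.map (CochainComplex.mappingCocone.fst d) = 0 := by
      let z := (a - b) ≫ Q.map (CochainComplex.mappingCocone.fst d)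
      have hz1 : z ≫ Q.map (biprod.fst : I ⊞ G ⟶ I) = 0 := by
        change a ≫ Q.map _ = b ≫ Q.map _ at hab
        rw [Category.assoc, ← Functor.map_comp, Preadditive.sub_comp, hab, sub_self]
      have hz2 : z ≫ Q.map d = 0 := by
        change ((a - b) ≫ T.mor₁) ≫ T.mor₂ = 0
        rw [Category.assoc, comp_distTriang_mor_zero₁₂ _ hT, comp_zero]
      have hd : z = (z ≫ Q.map (biprod.fst : I ⊞ G ⟶ I)) ≫ Q.map biprod.inl +
          (z ≫ Q.map (biprod.snd : I ⊞ G ⟶ G)) ≫ Q.map biprod.inr := by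
        simp only [Category.assoc, ← Functor.map_comp, ← Preadditive.comp_add, ← Functor.map_add,
          biprod.total, CategoryTheory.Functor.map_id, Category.comp_id]
      rw [hz1, zero_comp, zero_add] at hd
      rw [hd, Category.assoc, h1, Preadditive.comp_neg, neg_eq_zero] at hz2
      have hz3 := (cancel_mono (Q.map i₃)).1 (hz2.trans zero_comp.symm)
      change z = 0
      rw [hd, hz3, zero_comp]
    obtain ⟨c, hc⟩ := Triangle.coyoneda_exact₂ _ (inv_rot_of_distTriang _ hT) (a - b) hz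
    rw [hc]
    refine (congrArg (c ≫ ·) ?_).trans comp_zero
    simp [Triangle.invRotate, T, show _ = (0 : T.obj₃ ⟶ _) from h3]
  · let u := w ≫ Q.map (biprod.inl : I ⟶ I ⊞ G) +
      (w ≫ Q.map χ ≫ x) ≫ Q.map (biprod.inr : G ⟶ I ⊞ G)
    obtain ⟨v, hv⟩ := Triangle.coyoneda_exact₂ _ hT u (by
      change u ≫ Q.map d = 0
      rw [Preadditive.add_comp, Category.assoc, h2, Category.assoc, h1, Preadditive.comp_neg]
      simp only [x, Category.assoc, IsIso.inv_hom_id, Category.comp_id, add_neg_cancel])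
    refine ⟨v, ?_⟩
    change v ≫ Q.map (_ ≫ _) = w
    rw [Functor.map_comp, ← Category.assoc,
      show v ≫ Q.map (CochainComplex.mappingCocone.fst d) = u from hv.symm, Preadditive.add_comp]
    simp only [Category.assoc, ← Functor.map_comp, biprod.inl_fst, biprod.inr_fst, Functor.map_zero,
      comp_zero, add_zero]
    exact (congrArg (w ≫ ·) (Q.map_id I)).trans (Category.comp_id w)

variable (g' : X' ⟶ X)

/-- Data for the base change maps on sections. -/
structure BCData {Z : Cx X} {M : Cx X'} (a : Z ⟶ (pushC g').obj M) where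
  /-- the complex computing sections -/
  L : Cx X
  /-- the resolution -/
  j : Z ⟶ L
  qis : QuasiIso j
  wi : WI L
  fl : QRlimLib.Flasque L
  /-- the strict map -/
  χ : L ⟶ (pushC g').obj M
  /-- compatibility -/
  htpy : Homotopy (j ≫ χ) a

/-- Canonical data which receive maps from all others. -/
theorem exists_terminal_data {Z : Cx X} {M : Cx X'} (hM : WI M) (hfl : QRlimLib.Flasque M)
    (a : Z ⟶ (pushC g').obj M) :
    ∃ c : BCData g' a, ∀ {Z₁ : Cx X} {M₁ : Cx X'} {a₁ : Z₁ ⟶ (pushC g').obj M₁}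
      (d : BCData g' a₁) (m : Z₁ ⟶ Z) (e : M₁ ⟶ M)
      (_ : Homotopy (a₁ ≫ (pushC g').map e) (m ≫ a)),
      ∃ ℓ : d.L ⟶ c.L, ℓ ≫ c.χ = d.χ ≫ (pushC g').map e ∧
        ∀ V : X.Opens, QisOn V m → QisOn V ℓ := by
  obtain ⟨I, i, hI, hi, hIf⟩ := exists_injRes Z
  obtain ⟨R₃, i₃, hR, hi₃, hRf⟩ := exists_injRes ((pushC g').obj M)
  obtain ⟨χ₃, ⟨H⟩⟩ := exists_lift_homotopy i (a ≫ i₃)
  let d₃ := biprod.desc χ₃ (-i₃)
  let j : Z ⟶ mappingCocone d₃ := CochainComplex.mappingCocone.lift d₃ (biprod.lift i a)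
    (-Cochain.ofHomotopy H) (by
      simp [d₃, δ_ofHomotopy, biprod.lift_desc, sub_eq_add_neg])
  haveI := quasiIso_cocone_fst χ₃ i₃
  let p := CochainComplex.mappingCocone.fst d₃ ≫ (biprod.fst : I ⊞ (pushC g').obj M ⟶ I)
  haveI hj : QuasiIso j := by
    haveI : QuasiIso (j ≫ p) := by simpa [j, p] using hi
    exact quasiIso_of_comp_right j p
  let c : BCData g' a :=
  { L := mappingCocone d₃
    j := j
    qis := hj
    wi := WI.cocone d₃ (WI.biprod (wi_of_isKInjective I) (hM.push g')) (wi_of_isKInjective R₃)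
    fl := flasque_cocone d₃ (flasque_biprod hIf (flasque_push g' hfl)) hRf
    χ := CochainComplex.mappingCocone.fst d₃ ≫ biprod.snd
    htpy := Homotopy.ofEq (by simp [j]) }
  refine ⟨c, fun {Z₁ M₁ a₁} d m e K => ?_⟩
  haveI := d.qis
  obtain ⟨v, ⟨Hv⟩⟩ := exists_lift_homotopy d.j (m ≫ i)
  obtain ⟨G⟩ : Nonempty (Homotopy (v ≫ χ₃) ((d.χ ≫ (pushC g').map e) ≫ i₃)) :=
    nonempty_homotopy_of_Q (by
      rw [← cancel_epi (DerivedCategory.Q.map d.j), ← Functor.map_comp, ← Functor.map_comp]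
      refine DerivedCategory.Q_map_eq_of_homotopy _ ?_
      exact ((Homotopy.ofEq (Category.assoc _ _ _).symm).trans ((Hv.compRight χ₃).trans
        (Homotopy.ofEq (Category.assoc _ _ _)))).trans ((H.compLeft m).trans
          ((((Homotopy.ofEq (Category.assoc _ _ _).symm).trans (K.symm.compRight i₃))).trans
            (((d.htpy.symm.compRight ((pushC g').map e)).compRight i₃).trans
              (Homotopy.ofEq (by simp only [Category.assoc]))))))
  let ℓ : d.L ⟶ mappingCocone d₃ := CochainComplex.mappingCocone.lift d₃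
    (biprod.lift v (d.χ ≫ (pushC g').map e)) (-Cochain.ofHomotopy G) (by
      simp [d₃, δ_ofHomotopy, biprod.lift_desc, sub_eq_add_neg])
  refine ⟨ℓ, by simp [ℓ, c], fun V hV x hx => ?_⟩
  let S := KFlatLib.stalkCx X x
  haveI : QuasiIso (S.map p) := (KFlatLib.quasiIso_iff_stalks p).1 inferInstance x
  haveI : QuasiIso (S.map d.j) := (KFlatLib.quasiIso_iff_stalks d.j).1 inferInstance x
  haveI : QuasiIso (S.map i) := (KFlatLib.quasiIso_iff_stalks i).1 inferInstance x
  haveI : QuasiIso (S.map m) := hV x hx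
  haveI : QuasiIso (S.map (d.j ≫ ℓ ≫ p)) := by
    refine (quasiIso_iff_of_homotopy (DerSch.stalkFunctor X x)
      ((Homotopy.ofEq (by simp [ℓ, p])).trans Hv : Homotopy (d.j ≫ ℓ ≫ p) (m ≫ i))).2 ?_
    rw [Functor.map_comp]
    infer_instance
  haveI : QuasiIso (S.map d.j ≫ S.map ℓ ≫ S.map p) := by
    rw [← S.map_comp, ← S.map_comp]
    infer_instance
  haveI := quasiIso_of_comp_left (S.map d.j) (S.map ℓ ≫ S.map p)
  exact quasiIso_of_comp_right (S.map ℓ) (S.map p)

variable {R B : Type u} [CommRing R] [CommRing B] [Algebra R B]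
  {V : X.Opens} (φ : R →+* Γ(X, V)) {U : X'.Opens} (ψ : B →+* Γ(X', U)) (hle : U ≤ g' ⁻¹ᵁ V)
  (hc : ∀ r, g'.appLE V U hle (φ r) = restr (R := R) B ψ r)

/-- Sections pulled back. -/
noncomputable abbrev pullC' : pushC g' ⋙ secC V φ ⟶ secC U (restr (R := R) B ψ) where
  app M :=
    { f := fun n => (pullNat g' φ _ hle hc).app (M.X n)
      comm' := fun i j _ => ((pullNat g' φ _ hle hc).naturality (M.d i j)).symm }
  naturality {M N} a := HomologicalComplex.hom_ext _ _ fun n =>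
    (pullNat g' φ _ hle hc).naturality (a.f n)

/-- The base change map on sections of a strict map. -/
noncomputable def secBC {L : Cx X} {M : Cx X'} (χ : L ⟶ (pushC g').obj M) :
    (tB B).obj ((secC V φ).obj L) ⟶ (secC U (restr (R := R) B ψ)).obj M :=
  linB ψ ((secC V φ).map χ ≫ (pullC' g' φ ψ hle hc).app M)

theorem secBC_natural {L L₁ : Cx X} {M M₁ : Cx X'} (χ : L ⟶ (pushC g').obj M)
    (χ₁ : L₁ ⟶ (pushC g').obj M₁) (ℓ : L₁ ⟶ L) (e : M₁ ⟶ M)
    (h : ℓ ≫ χ = χ₁ ≫ (pushC g').map e) :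
    (tB B).map ((secC V φ).map ℓ) ≫ secBC g' φ ψ hle hc χ =
      secBC g' φ ψ hle hc χ₁ ≫ (secC U (restr (R := R) B ψ)).map e := by
  unfold secBC
  rw [linB_comp_left, linB_comp_right, ← Functor.map_comp_assoc, h, Functor.map_comp, Category.assoc,
    Category.assoc]
  congr 2
  exact (pullC' g' φ ψ hle hc).naturality e

variable {g'}

/-- The data are good. -/
def DGood {Z : Cx X} {M : Cx X'} {a : Z ⟶ (pushC g').obj M} (d : BCData g' a) : Prop :=
  BGood (secBC g' φ ψ hle hc d.χ)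

/-- Data for a map which is a quasi-isomorphism on `V` and on `U` are good together. -/
theorem dGood_iff {Z Z₁ : Cx X} {M M₁ : Cx X'} {a : Z ⟶ (pushC g').obj M}
    {a₁ : Z₁ ⟶ (pushC g').obj M₁} (d : BCData g' a) (d₁ : BCData g' a₁) (hM : WI M) (hM₁ : WI M₁)
    (hfl : QRlimLib.Flasque M) (m : Z₁ ⟶ Z) (e : M₁ ⟶ M)
    (K : Homotopy (a₁ ≫ (pushC g').map e) (m ≫ a)) (hm : QisOn V m) (he : QisOn U e) :
    DGood φ ψ hle hc d₁ ↔ DGood φ ψ hle hc d := by
  obtain ⟨c, hcT⟩ := exists_terminal_data g' hM hfl a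
  obtain ⟨ℓ, hℓ, hℓV⟩ := hcT d₁ m e K
  obtain ⟨ℓ', hℓ', hℓV'⟩ := hcT d (𝟙 Z) (𝟙 M) (Homotopy.ofEq (by simp))
  haveI := quasiIso_sec φ d₁.wi c.wi (hℓV V hm)
  haveI := quasiIso_sec φ d.wi c.wi (hℓV' V fun x _ => by rw [CategoryTheory.Functor.map_id]; infer_instance)
  haveI := quasiIso_sec (restr (R := R) B ψ) hM₁ hM he
  have h1 := bGood_iff_of_square _ _ _ _ (Homotopy.ofEq (secBC_natural g' φ ψ hle hc _ _ ℓ e hℓ))
  have h2 := bGood_iff_of_square _ _ _ _ (Homotopy.ofEq (secBC_natural g' φ ψ hle hc _ _ ℓ' (𝟙 M) hℓ'))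
  exact h1.symm.trans h2

/-- Both sides good: the map of targets is a quasi-isomorphism on sections. -/
theorem quasiIso_sec_of_dGood {Z Z₁ : Cx X} {M M₁ : Cx X'} {a : Z ⟶ (pushC g').obj M}
    {a₁ : Z₁ ⟶ (pushC g').obj M₁} (d : BCData g' a) (d₁ : BCData g' a₁) (hM : WI M)
    (hfl : QRlimLib.Flasque M) (m : Z₁ ⟶ Z) (e : M₁ ⟶ M)
    (K : Homotopy (a₁ ≫ (pushC g').map e) (m ≫ a)) (hm : QisOn V m)
    (h : DGood φ ψ hle hc d) (h₁ : DGood φ ψ hle hc d₁) :
    QuasiIso ((secC U (restr (R := R) B ψ)).map e) := by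
  obtain ⟨c, hcT⟩ := exists_terminal_data g' hM hfl a
  obtain ⟨ℓ, hℓ, hℓV⟩ := hcT d₁ m e K
  obtain ⟨ℓ', hℓ', hℓV'⟩ := hcT d (𝟙 Z) (𝟙 M) (Homotopy.ofEq (by simp))
  haveI := quasiIso_sec φ d₁.wi c.wi (hℓV V hm)
  haveI := quasiIso_sec φ d.wi c.wi (hℓV' V fun x _ => by rw [CategoryTheory.Functor.map_id]; infer_instance)
  have h2 := bGood_iff_of_square _ _ _ _ (Homotopy.ofEq (secBC_natural g' φ ψ hle hc _ _ ℓ' (𝟙 M) hℓ'))
  exact quasiIso_of_square _ _ _ _ (Homotopy.ofEq (secBC_natural g' φ ψ hle hc _ _ ℓ e hℓ)) h₁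
    (h2.2 h)

end DerBCLib
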