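import Groth.Agent.DerBCLib.Chart
import Groth.Agent.ProjFormLib.Frame
import Groth.Agent.QRlimLib.Unbounded
import Groth.Agent.DCohRestrLib.MV

/-!
# Derived base change for complexes with local models

For a cartesian square and a complex `Z` with local models the base change map of complexes is a
quasi-isomorphism.
-/

set_option autoImplicit false
set_option backward.isDefEq.respectTransparency false
set_option backward.isDefEq.respectTransparency.types false
set_option maxHeartbeats 1000000
set_option linter.style.haveILetI false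

universe u

open CategoryTheory CategoryTheory.Limits AlgebraicGeometry HomologicalComplex Opposite MonoidalCategory
open Groth.Agent Groth.Agent.DerLib Groth.Agent.PerfDualLib Groth.Agent.ProjFormLib
open RpushLib (secFun resφ)
open _root_.ProjFormLib (exists_ger ger ger_map ger_res)

attribute [local instance] HasDerivedCategory.standard

namespace DerBCLib

section Sections

variable {X : Scheme.{u}}

theorem exact_sec_of_isZero {R : Type u} [CommRing R] {U : X.Opens} (φ : R →+* Γ(X, U)) (C : Cx X)
    (i : ℤ) (h : IsZero (((secC U φ).obj C).homology i)) (z : Γ(C.X i, U))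
    (hz : (C.d i (i + 1)).app U z = 0) :
    ∃ y : Γ(C.X (i - 1), U), (C.d (i - 1) i).app U y = z :=
  (KFlatLib.isZero_homology_iff_exists _ (i - 1) i (i + 1) (by omega) rfl).1 h z hz

/-- Exactness of sections on a basis gives exactness on stalks. -/
theorem isZero_stalk_of_basis (C : Cx X)
    (h : ∀ (x : X) (N : X.Opens), x ∈ N → ∃ U : X.Opens, x ∈ U ∧ U ≤ N ∧
      ∀ i, IsZero (((secC U (RingHom.id Γ(X, U))).obj C).homology i))
    (x : X) (i : ℤ) : IsZero (((KFlatLib.stalkCx X x).obj C).homology i) := by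
  refine (exactAt_iff_isZero_homology _ _).1 ?_
  rw [exactAt_iff' _ (i - 1) i (i + 1) (by simp) (by simp), ShortComplex.moduleCat_exact_iff]
  intro a (ha : ((DerSch.stalkFunctor X x).map (C.d i (i + 1))).hom a = 0)
  obtain ⟨N, hxN, z, rfl⟩ := exists_ger (C.X i) x a
  have h0 : ger (C.X (i + 1)) x hxN ((C.d i (i + 1)).app N z) =
      ger (C.X (i + 1)) x hxN (0 : Γ(C.X (i + 1), N)) :=
    ((ger_map (C.d i (i + 1)) x hxN z).symm.trans ha).trans
      (map_zero ((C.X (i + 1)).presheaf.germ N x hxN).hom).symm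
  obtain ⟨N', hxN', iU, iV, hN'⟩ := (C.X (i + 1)).presheaf.germ_eq x hxN hxN _ _ h0
  obtain ⟨U, hxU, hUN, hU⟩ := h x N' hxN'
  have hle : U ≤ N := hUN.trans iU.le
  have hd : (C.d i (i + 1)).app U ((C.X i).presheaf.map (homOfLE hle).op z) = 0 := by
    refine (QCohLib.app_map (C.d i (i + 1)) (homOfLE hle) z).trans ?_
    have h1 := congrArg ((C.X (i + 1)).presheaf.map (homOfLE hUN).op) hN'
    refine Eq.trans ?_ (h1.trans ?_)
    · exact (congrArg (fun k => (C.X (i + 1)).presheaf.map (Quiver.Hom.op k) ((C.d i (i + 1)).app N z))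
        (Subsingleton.elim (homOfLE hle) (homOfLE hUN ≫ iU))).trans (QCohLib.map_map' _ _ _ _).symm
    · rw [map_zero, map_zero]
  obtain ⟨y, hy⟩ := exact_sec_of_isZero (RingHom.id Γ(X, U)) C i (hU i) _ hd
  refine ⟨ger (C.X (i - 1)) x hxU y, ?_⟩
  refine (ger_map (C.d (i - 1) i) x hxU y).trans ?_
  rw [hy]
  exact ger_res (C.X i) hle x hxU z

/-- A map inducing quasi-isomorphisms on sections over a basis is a quasi-isomorphism. -/
theorem quasiIso_of_sec {C D : Cx X} (e : C ⟶ D)
    (h : ∀ (x : X) (N : X.Opens), x ∈ N → ∃ U : X.Opens, x ∈ U ∧ U ≤ N ∧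
      QuasiIso ((secC U (RingHom.id Γ(X, U))).map e)) : QuasiIso e := by
  refine (KFlatLib.acyclic_cone_iff _).1 ((KFlatLib.acyclic_iff_stalks _).2 fun x i =>
    isZero_stalk_of_basis _ (fun x N hx => ?_) x i)
  obtain ⟨U, hxU, hUN, hU⟩ := h x N hx
  exact ⟨U, hxU, hUN, fun j => ((KFlatLib.acyclic_cone_iff _).2 hU j).of_iso
    ((HomologicalComplex.homologyFunctor _ _ j).mapIso
      (CochainComplex.mappingCone.mapHomologicalComplexIso e (secFun U (RingHom.id Γ(X, U)))))⟩

theorem quasiIso_secC_restr {R R' : Type u} [CommRing R] [CommRing R'] {U : X.Opens}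
    (φ : R →+* Γ(X, U)) (φ' : R' →+* Γ(X, U)) {C D : Cx X} (e : C ⟶ D)
    (h : QuasiIso ((secC U φ).map e)) : QuasiIso ((secC U φ').map e) := by
  refine (KFlatLib.acyclic_cone_iff _).1 fun i => IsZero.of_iso ?_
    ((HomologicalComplex.homologyFunctor _ _ i).mapIso
      (CochainComplex.mappingCone.mapHomologicalComplexIso e (secFun U φ')).symm)
  have hi := ((KFlatLib.acyclic_cone_iff _).2 h i).of_iso
    ((HomologicalComplex.homologyFunctor _ _ i).mapIso
      (CochainComplex.mappingCone.mapHomologicalComplexIso e (secFun U φ)))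
  exact (KFlatLib.isZero_homology_iff_exists _ (i - 1) i (i + 1) (by omega) rfl).2 fun z hz =>
    exact_sec_of_isZero φ (CochainComplex.mappingCone e) i hi z hz

/-- Direct images of quasi-isomorphisms of weakly K-injective complexes. -/
theorem quasiIso_push_wi {Y : Scheme.{u}} (f : X ⟶ Y) {W W' : Cx X} (hW : WI W) (hW' : WI W')
    (e : W ⟶ W') [QuasiIso e] : QuasiIso ((pushC f).map e) :=
  (KFlatLib.acyclic_cone_iff _).1 ((KFlatLib.acyclic_iff_stalks _).2 fun x i =>
    (isZero_stalk_of_basis ((pushC f).obj (CochainComplex.mappingCone e))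
      (fun _ N hx => ⟨N, hx, le_rfl, fun j =>
        (KFlatLib.isZero_homology_iff_exists _ (j - 1) j (j + 1) (by omega) rfl).2 fun z hz =>
          exact_sec_of_isZero (RingHom.id Γ(X, f ⁻¹ᵁ N)) (CochainComplex.mappingCone e) j
            (isZero_homology_sec _ (WI.cone e hW hW') (acyOn_cone_of_qisOn (QisOn.of_quasiIso _ e)) j)
            z hz⟩) x i).of_iso
      ((HomologicalComplex.homologyFunctor _ _ i).mapIso ((KFlatLib.stalkCx Y x).mapIso
        (CochainComplex.mappingCone.mapHomologicalComplexIso e (Scheme.Modules.pushforward f)).symm)))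

end Sections

end DerBCLib
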