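import Groth.Agent.DerBCLib.Data
import Groth.Agent.S0015

/-!
# Good data: from affine opens to quasi-compact quasi-separated ones
-/

set_option autoImplicit false
set_option backward.isDefEq.respectTransparency false
set_option backward.isDefEq.respectTransparency.types false
set_option maxHeartbeats 1000000
set_option linter.style.haveILetI false

universe u

open CategoryTheory CategoryTheory.Limits AlgebraicGeometry HomologicalComplex Opposite
open Groth.Agent Groth.Agent.PerfDualLib Groth.Agent.ProjFormLib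
open RpushLib (secFun resφ resφ_res)

namespace DerBCLib

variable {X X' : Scheme.{u}} {R B : Type u} [CommRing R] [CommRing B] [Algebra R B]
  (g : X' ⟶ X) {W : X.Opens} (φ : R →+* Γ(X, W)) {O : X'.Opens} (hO : O ≤ g ⁻¹ᵁ W)
  (φ' : B →+* Γ(X', O)) (hφ : ∀ r, g.appLE W O hO (φ r) = φ' (algebraMap R B r))

include hφ in
theorem compat_res {V : X.Opens} (hV : V ≤ W) {U : X'.Opens} (hU : U ≤ g ⁻¹ᵁ V) (hUO : U ≤ O)
    (r : R) : g.appLE V U hU (resφ φ hV r) = restr (R := R) B (resφ φ' hUO) r := by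
  change (X.presheaf.map (homOfLE hV).op ≫ g.appLE V U hU) (φ r) =
    X'.presheaf.map (homOfLE hUO).op (φ' (algebraMap R B r))
  rw [Scheme.Hom.map_appLE, ← hφ r]
  change _ = (g.appLE W O hO ≫ X'.presheaf.map (homOfLE hUO).op) (φ r)
  rw [Scheme.Hom.appLE_map]

variable {L : Cx X} {M : Cx X'} (χ : L ⟶ (pushC g).obj M)

/-- The base change map over `V`. -/
noncomputable def bcAt {V : X.Opens} (hV : V ≤ W) :
    (tB B).obj ((secC V (resφ φ hV)).obj L) ⟶
      (secC (g ⁻¹ᵁ V ⊓ O) (resφ (φ'.comp (algebraMap R B)) (inf_le_right : g ⁻¹ᵁ V ⊓ O ≤ O))).obj M :=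
  secBC g (resφ φ hV) (resφ φ' inf_le_right) inf_le_left
    (compat_res g φ hO φ' hφ hV inf_le_left inf_le_right) χ

theorem bcAt_res {U V : X.Opens} (h : U ≤ V) (hV : V ≤ W) :
    (tB B).map ((resC φ h hV).app L) ≫ bcAt g φ hO φ' hφ χ (h.trans hV) =
      bcAt g φ hO φ' hφ χ hV ≫ (resC (φ'.comp (algebraMap R B))
        (inf_le_inf_right O (g.preimage_mono h)) inf_le_right).app M := by
  refine HomologicalComplex.hom_ext _ _ fun n => ModuleCat.hom_ext (TensorProduct.ext' fun b m => ?_)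
  let U' := g ⁻¹ᵁ U ⊓ O
  let V' := g ⁻¹ᵁ V ⊓ O
  let hle : U' ≤ V' := inf_le_inf_right O (g.preimage_mono h)
  let mV : Γ(L.X n, V) := m
  let z : Γ(M.X n, g ⁻¹ᵁ V) := (χ.f n).app V mV
  change (resφ φ' (inf_le_right : U' ≤ O) b) • (M.X n).presheaf.map (homOfLE inf_le_left).op
      ((χ.f n).app U ((L.X n).presheaf.map (homOfLE h).op mV)) =
    (M.X n).presheaf.map (homOfLE hle).op
      (resφ φ' (inf_le_right : V' ≤ O) b • (M.X n).presheaf.map (homOfLE inf_le_left).op z)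
  rw [Scheme.Modules.map_smul, resφ_res]
  refine congrArg (resφ φ' (inf_le_right : U' ≤ O) b • ·) ?_
  rw [QCohLib.app_map]
  refine (congrArg ((M.X n).presheaf.map (homOfLE inf_le_left).op) (rfl :
    ((Scheme.Modules.pushforward g).obj (M.X n)).presheaf.map (homOfLE h).op z =
      (M.X n).presheaf.map (homOfLE (g.preimage_mono h)).op z)).trans ?_
  exact (QCohLib.map_map' _ _ _ _).trans ((congrArg (fun i => (M.X n).presheaf.map (Quiver.Hom.op i) z)
    (Subsingleton.elim _ _)).trans (QCohLib.map_map' _ _ _ _).symm)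

/-- The Mayer–Vietoris step, abstractly. -/
theorem bGood_mv {A U V D A' U' V' D' : CochainComplex (ModuleCat.{u} R) ℤ} {rU : A ⟶ U} {rV : A ⟶ V}
    {sU : U ⟶ D} {sV : V ⟶ D} {rU' : A' ⟶ U'} {rV' : A' ⟶ V'} {sU' : U' ⟶ D'} {sV' : V' ⟶ D'}
    {w : biprod.lift rU rV ≫ biprod.desc sU (-sV) = 0}
    {w' : biprod.lift rU' rV' ≫ biprod.desc sU' (-sV') = 0}
    (hS : (ShortComplex.mk _ _ w).ShortExact) (hS' : (ShortComplex.mk _ _ w').ShortExact)
    (θA : (tB B).obj A ⟶ A') (θU : (tB B).obj U ⟶ U') (θV : (tB B).obj V ⟶ V')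
    (θD : (tB B).obj D ⟶ D') (cU : (tB B).map rU ≫ θU = θA ≫ rU')
    (cV : (tB B).map rV ≫ θV = θA ≫ rV') (dU : (tB B).map sU ≫ θD = θU ≫ sU')
    (dV : (tB B).map sV ≫ θD = θV ≫ sV') (hU : BGood θU) (hV : BGood θV) (hD : BGood θD) :
    BGood θA := by
  let θ₂ : (tB B).obj (U ⊞ V) ⟶ U' ⊞ V' :=
    (tB B).map biprod.fst ≫ θU ≫ biprod.inl + (tB B).map biprod.snd ≫ θV ≫ biprod.inr
  have h₂ : BGood θ₂ := by
    refine bGood_biprod θU θV θ₂ ?_ ?_ hU hV
    · simp only [θ₂, Preadditive.comp_add, ← Functor.map_comp_assoc, biprod.inl_fst, biprod.inl_snd,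
        Functor.map_zero, zero_comp, add_zero, CategoryTheory.Functor.map_id, Category.id_comp]
    · simp only [θ₂, Preadditive.add_comp, Category.assoc, biprod.inl_snd, biprod.inr_snd, comp_zero,
        zero_add, Category.comp_id]
  refine bGood_three hS hS' θA θ₂ θD ?_ ?_ h₂ hD
  · dsimp [θ₂]
    simp only [Preadditive.comp_add, ← Functor.map_comp_assoc, biprod.lift_fst, biprod.lift_snd,
      reassoc_of% cU, reassoc_of% cV]
    rw [biprod.lift_eq, Preadditive.comp_add]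
  · dsimp [θ₂]
    simp only [Category.assoc, Preadditive.add_comp, biprod.inl_desc, biprod.inr_desc,
      Preadditive.comp_neg]
    rw [biprod.desc_eq, Functor.map_add, Preadditive.add_comp, Functor.map_comp, Functor.map_comp,
      Category.assoc, Category.assoc, Functor.map_neg, Preadditive.neg_comp, dU, dV,
      Preadditive.comp_neg]

/-- Goodness over `V`. -/
def OK (V : X.Opens) : Prop := ∀ hV : V ≤ W, BGood (bcAt g φ hO φ' hφ χ hV)

theorem ok_sup (hfl : QRlimLib.Flasque L) (hMf : QRlimLib.Flasque M) (U V : X.Opens)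
    (hU : OK g φ hO φ' hφ χ U) (hV : OK g φ hO φ' hφ χ V) (hD : OK g φ hO φ' hφ χ (U ⊓ V)) :
    OK g φ hO φ' hφ χ (U ⊔ V) := by
  intro hA
  have hUW : U ≤ W := le_sup_left.trans hA
  have hVW : V ≤ W := le_sup_right.trans hA
  let A' := g ⁻¹ᵁ (U ⊔ V) ⊓ O
  let U' := g ⁻¹ᵁ U ⊓ O
  let V' := g ⁻¹ᵁ V ⊓ O
  let D' := g ⁻¹ᵁ (U ⊓ V) ⊓ O
  let σ := φ'.comp (algebraMap R B)
  have hU' : U' ≤ A' := inf_le_inf_right O (g.preimage_mono le_sup_left)
  have hV' : V' ≤ A' := inf_le_inf_right O (g.preimage_mono le_sup_right)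
  have hDU' : D' ≤ U' := inf_le_inf_right O (g.preimage_mono inf_le_left)
  have hDV' : D' ≤ V' := inf_le_inf_right O (g.preimage_mono inf_le_right)
  let S := mvZ φ L (A := U ⊔ V) (U := U) (V := V) (D := U ⊓ V) hA le_sup_left le_sup_right
    inf_le_left inf_le_right
  let S' := mvZ σ M (A := A') (U := U') (V := V') (D := D') inf_le_right hU' hV' hDU' hDV'
  have hS : S.ShortExact := mvZ_shortExact φ L hA _ _ _ _ hfl rfl rfl
  have hS' : S'.ShortExact := mvZ_shortExact σ M inf_le_right hU' hV' hDU' hDV' hMf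
    (by ext x; simp [A', U', V', or_and_right])
    (by ext x; simp [D', U', V']; tauto)
  exact bGood_mv hS hS' (bcAt g φ hO φ' hφ χ hA) (bcAt g φ hO φ' hφ χ hUW)
    (bcAt g φ hO φ' hφ χ hVW) (bcAt g φ hO φ' hφ χ (inf_le_left.trans hUW))
    (bcAt_res g φ hO φ' hφ χ le_sup_left hA) (bcAt_res g φ hO φ' hφ χ le_sup_right hA)
    (bcAt_res g φ hO φ' hφ χ inf_le_left hUW) (bcAt_res g φ hO φ' hφ χ inf_le_right hVW)
    (hU hUW) (hV hVW) (hD _)

/-- Goodness on affine opens gives goodness on quasi-compact quasi-separated ones. -/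
theorem ok_of_affine (hfl : QRlimLib.Flasque L) (hMf : QRlimLib.Flasque M)
    (hW : IsCompact (W : Set X)) (hqs : IsQuasiSeparated (W : Set X))
    (haff : ∀ V : X.Opens, IsAffineOpen V → OK g φ hO φ' hφ χ V) : OK g φ hO φ' hφ χ W := by
  suffices ∀ V : X.Opens, IsCompact (V : Set X) → OK g φ hO φ' hφ χ V from this W hW
  intro V hV
  refine compact_open_induction_on (P := OK g φ hO φ' hφ χ) V hV (haff ⊥ (isAffineOpen_bot X))
    fun S hS Q ih hSQ => ?_
  refine ok_sup g φ hO φ' hφ χ hfl hMf S Q.1 ih (haff _ Q.2) ?_ hSQ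
  exact Groth.Agent.S0015.compact_le_affine X (OK g φ hO φ' hφ χ) haff
    (fun U V _ _ => ok_sup g φ hO φ' hφ χ hfl hMf U V) Q.1 Q.2 _ inf_le_right
    (hqs _ _ (le_sup_left.trans hSQ) S.2 hS (le_sup_right.trans hSQ) Q.1.2 Q.2.isCompact)

end DerBCLib
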