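import Groth.Agent.DerBCLib.LocQ
import Groth.Agent.DerBCLib.Data
import Groth.Agent.TildeDerLib.Affine
import Groth.Agent.ProjFormLib.QCohClass

/-!
# Sections of complexes quasi-coherent on an affine open

If the terms of `C` are quasi-coherent on an affine open `V`, every map `C ⟶ W` to a weakly
K-injective complex which is a quasi-isomorphism on `V` gives a quasi-isomorphism on sections over `V`.
-/

set_option autoImplicit false
set_option backward.isDefEq.respectTransparency false
set_option backward.isDefEq.respectTransparency.types false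
set_option maxHeartbeats 1000000
set_option linter.style.haveILetI false

universe u

open CategoryTheory CategoryTheory.Limits AlgebraicGeometry HomologicalComplex Opposite
open Groth.Agent Groth.Agent.DerLib Groth.Agent.PerfDualLib Groth.Agent.ProjFormLib
open RpushLib (secFun)

attribute [local instance] HasDerivedCategory.standard

namespace DerBCLib

theorem quasiIso_congr_cx {C : Type*} [Category* C] [Abelian C] {K L : CochainComplex C ℤ}
    {a b : K ⟶ L} (h : Homotopy a b) : QuasiIso a ↔ QuasiIso b := by
  simp only [quasiIso_iff, quasiIsoAt_iff_isIso_homologyMap, h.homologyMap_eq]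

section Spec

variable (A : CommRingCat.{u})

/-- The counit at a K-injective complex with quasi-coherent cohomology. -/
theorem quasiIso_counit_kInj (J : Cx (Spec (CommRingCat.of A))) [J.IsKInjective]
    (hJ : DCoh.IsQCohD (DerivedCategory.Q.obj J)) :
    QuasiIso ((KInjDerived.mapHomologicalComplexAdj (TildeDerLib.adjT A)
      (ComplexShape.up ℤ)).counit.app J) := by
  haveI : PreservesFiniteLimits (tilde.functor A) := ProjFormLib.preservesFiniteLimits_tilde A
  haveI : IsIso ((TildeDerLib.adjD A).counit.app (DerivedCategory.Qh.obj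
      ((HomotopyCategory.quotient _ _).obj J))) :=
    TildeDerLib.isIso_counit A
      (KFlatLib.isQCohD_iso ((DerivedCategory.quotientCompQhIso _).app J).symm hJ)
  haveI := KInjDerived.isRightDerived_comp (G := tilde.functor A) (TildeDerLib.RGamma A)
    (TildeDerLib.RGammaUnit A) KFlatLib.enoughKInj_modules
  haveI := KInjDerived.isIso_app (TildeDerLib.RGamma A) (TildeDerLib.RGammaUnit A)
    KFlatLib.enoughKInj_modules J
  have key := (KInjDerived.mapHomotopyCategoryAdj (TildeDerLib.adjT A) (ComplexShape.up ℤ)).derivedε_fac_app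
    (HomotopyCategory.quasiIso (Spec (CommRingCat.of A)).Modules (ComplexShape.up ℤ))
    (tilde.functor A).mapDerivedCategoryFactorsh.hom (TildeDerLib.RGammaUnit A)
    ((HomotopyCategory.quotient (Spec (CommRingCat.of A)).Modules (ComplexShape.up ℤ)).obj J)
  have hh : IsIso ((tilde.functor A).mapDerivedCategory.map ((TildeDerLib.RGammaUnit A).app
      ((HomotopyCategory.quotient (Spec (CommRingCat.of A)).Modules (ComplexShape.up ℤ)).obj J)) ≫
      (TildeDerLib.adjD A).counit.app (DerivedCategory.Qh.obj
        ((HomotopyCategory.quotient _ _).obj J))) := inferInstance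
  have h : IsIso (DerivedCategory.Qh.map
      ((KInjDerived.mapHomotopyCategoryAdj (TildeDerLib.adjT A) (ComplexShape.up ℤ)).counit.app
        ((HomotopyCategory.quotient (Spec (CommRingCat.of A)).Modules (ComplexShape.up ℤ)).obj J))) :=
    @IsIso.of_isIso_fac_left _ _ _ _ _ _ _ _ _ hh key.symm
  refine (DerivedCategory.isIso_Q_map_iff_quasiIso _ _).1 ?_
  exact (NatIso.isIso_map_iff (DerivedCategory.quotientCompQhIso _) _).1 h

/-- Sections of a complex of quasi-coherent modules on an affine scheme compute its cohomology. -/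
theorem quasiIso_gamma {K J : Cx (Spec (CommRingCat.of A))} (hK : ∀ n, Coh.IsQCoh (K.X n))
    [J.IsKInjective] (i : K ⟶ J) [QuasiIso i] :
    QuasiIso (((TildeDerLib.gammaF A).mapHomologicalComplex (ComplexShape.up ℤ)).map i) := by
  haveI : PreservesFiniteLimits (tilde.functor A) := ProjFormLib.preservesFiniteLimits_tilde A
  let adj := KInjDerived.mapHomologicalComplexAdj (TildeDerLib.adjT A) (ComplexShape.up ℤ)
  haveI : IsIso (adj.counit.app K) := by
    haveI : ∀ n, IsIso ((adj.counit.app K).f n) := fun n => by
      haveI : IsIso ((TildeDerLib.adjT A).counit.app (K.X n)) :=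
        @Scheme.Modules.isIso_fromTildeΓ_of_isQuasicoherent _ (K.X n) (hK n)
      change IsIso ((TildeDerLib.adjT A).counit.app (K.X n))
      infer_instance
    exact HomologicalComplex.Hom.isIso_of_components _
  haveI := quasiIso_counit_kInj A J (KFlatLib.isQCohD_iso (asIso (DerivedCategory.Q.map i))
    (isQCohD_of_homology K (KFlatLib.isQCoh_homology_of_terms K hK)))
  refine (quasiIso_map_iff_of_preservesHomology _ (tilde.functor A)).1 ?_
  haveI : QuasiIso (((tilde.functor A).mapHomologicalComplex (ComplexShape.up ℤ)).map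
      (((TildeDerLib.gammaF A).mapHomologicalComplex (ComplexShape.up ℤ)).map i) ≫ adj.counit.app J) := by
    have h := adj.counit.naturality i
    refine Eq.mpr (congrArg (fun k => QuasiIso k) h) ?_
    exact quasiIso_comp (adj.counit.app K) i
  exact quasiIso_of_comp_right _ (adj.counit.app J)

variable {R : Type u} [CommRing R]

theorem quasiIso_secC_spec {K J : Cx (Spec (CommRingCat.of A))} (hK : ∀ n, Coh.IsQCoh (K.X n))
    [J.IsKInjective] (i : K ⟶ J) [QuasiIso i] :
    ∀ (U : (Spec (CommRingCat.of A)).Opens), U = ⊤ → ∀ (ψ : R →+* Γ(Spec (CommRingCat.of A), U)),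
      QuasiIso ((secC U ψ).map i) := by
  rintro U rfl ψ
  let ρ : R →+* (A : Type u) := (Scheme.ΓSpecIso A).hom.hom.comp ψ
  haveI := quasiIso_gamma A hK i
  let L := ((TildeDerLib.gammaF A).mapHomologicalComplex (ComplexShape.up ℤ))
  haveI : QuasiIso (((ModuleCat.restrictScalars.{u} ρ).mapHomologicalComplex (ComplexShape.up ℤ)).map
      (L.map i)) := inferInstance
  let e : secFun (⊤ : (Spec (CommRingCat.of A)).Opens) ψ ≅
      TildeDerLib.gammaF A ⋙ ModuleCat.restrictScalars.{u} ρ :=
    NatIso.ofComponents (fun M => @LinearEquiv.toModuleIso R _ _ _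
      ((secFun (⊤ : (Spec (CommRingCat.of A)).Opens) ψ).obj M).isAddCommGroup
      ((TildeDerLib.gammaF A ⋙ ModuleCat.restrictScalars.{u} ρ).obj M).isAddCommGroup
      ((secFun (⊤ : (Spec (CommRingCat.of A)).Opens) ψ).obj M).isModule
      ((TildeDerLib.gammaF A ⋙ ModuleCat.restrictScalars.{u} ρ).obj M).isModule
      { toFun := fun m => m
        invFun := fun m => m
        left_inv := fun _ => rfl
        right_inv := fun _ => rfl
        map_add' := fun _ _ => rfl
        map_smul' := fun r (m : Γ(M, ⊤)) => by
          change ψ r • m = ((Scheme.ΓSpecIso A).hom (ψ r) : A) • m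
          rw [Scheme.Modules.smul_Spec_def]
          congr 1
          rw [Iso.hom_inv_id_apply]
          exact (congr($((Spec A).presheaf.map_id _).hom (ψ r))).symm }) fun _ => rfl
  let η := NatIso.mapHomologicalComplex e (ComplexShape.up ℤ)
  haveI : QuasiIso (((TildeDerLib.gammaF A ⋙ ModuleCat.restrictScalars.{u} ρ).mapHomologicalComplex
      (ComplexShape.up ℤ)).map i) :=
    inferInstanceAs (QuasiIso (((ModuleCat.restrictScalars.{u} ρ).mapHomologicalComplex
      (ComplexShape.up ℤ)).map (L.map i)))
  haveI : QuasiIso ((secC (⊤ : (Spec (CommRingCat.of A)).Opens) ψ).map i ≫ η.hom.app J) := by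
    refine Eq.mpr (congrArg (fun k => QuasiIso k) (η.hom.naturality i)) ?_
    exact quasiIso_comp _ _
  exact quasiIso_of_comp_right _ (η.hom.app J)

end Spec

section Open

variable {X Y : Scheme.{u}} (j : Y ⟶ X) [IsOpenImmersion j]

/-- Restriction of complexes along an open immersion. -/
noncomputable abbrev resJ : Cx X ⥤ Cx Y :=
  (Scheme.Modules.restrictFunctor j).mapHomologicalComplex (ComplexShape.up ℤ)

/-- The adjunction on complexes. -/
noncomputable abbrev resAdj : resJ j ⊣ pushC j :=
  KInjDerived.mapHomologicalComplexAdj (Scheme.Modules.restrictAdjunction j) (ComplexShape.up ℤ)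

theorem isZero_resJ_homology (C : Cx X) (n : ℤ) :
    IsZero (((resJ j).obj C).homology n) ↔
      ∀ y : Y, IsZero (((KFlatLib.stalkCx X (j y)).obj C).homology n) := by
  refine ((C.sc n).mapHomologyIso (Scheme.Modules.restrictFunctor j)).isZero_iff.trans ?_
  rw [DCohRestrLib.isZero_iff_subsingleton_stalks]
  constructor
  · intro h y
    refine IsZero.of_iso ?_ (KFlatLib.stalkHomologyIso C _ n)
    haveI : Subsingleton ((DerSch.stalkFunctor X (j y)).obj (C.homology n)) :=
      (DCohRestrLib.subsingleton_stalk_restrict j (C.homology n) y).1 (h y)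
    exact ModuleCat.isZero_of_subsingleton _
  · intro h w
    exact (DCohRestrLib.subsingleton_stalk_restrict j (C.homology n) w).2
      (ModuleCat.subsingleton_of_isZero ((h w).of_iso (KFlatLib.stalkHomologyIso C _ n).symm))

theorem quasiIso_resJ_iff {C D : Cx X} (f : C ⟶ D) :
    QuasiIso ((resJ j).map f) ↔
      ∀ y : Y, QuasiIso ((KFlatLib.stalkCx X (j y)).map f) := by
  let eR := CochainComplex.mappingCone.mapHomologicalComplexIso f (Scheme.Modules.restrictFunctor j)
  let eS := fun x => CochainComplex.mappingCone.mapHomologicalComplexIso f (DerSch.stalkFunctor X x)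
  constructor
  · intro h y
    refine (KFlatLib.acyclic_cone_iff _).1 fun n => IsZero.of_iso ?_
      ((HomologicalComplex.homologyFunctor _ _ n).mapIso (eS (j y)).symm)
    exact (isZero_resJ_homology j _ n).1 (((KFlatLib.acyclic_cone_iff _).2 h n).of_iso
      ((HomologicalComplex.homologyFunctor _ _ n).mapIso eR)) y
  · intro h
    refine (KFlatLib.acyclic_cone_iff _).1 fun n => IsZero.of_iso ?_
      ((HomologicalComplex.homologyFunctor _ _ n).mapIso eR.symm)
    exact (isZero_resJ_homology j _ n).2 fun y => ((KFlatLib.acyclic_cone_iff _).2 (h y) n).of_iso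
      ((HomologicalComplex.homologyFunctor _ _ n).mapIso (eS (j y)))

theorem isIso_resAdj_counit (J : Cx Y) : IsIso ((resAdj j).counit.app J) := by
  haveI : ∀ n, IsIso (((resAdj j).counit.app J).f n) := fun n => by
    change IsIso ((Scheme.Modules.restrictAdjunction j).counit.app (J.X n))
    infer_instance
  exact HomologicalComplex.Hom.isIso_of_components _

variable {R : Type u} [CommRing R]

/-- Sections over `V ⊆ j(Y)` do not change under the unit. -/
theorem quasiIso_sec_unit {V : X.Opens} (hV : V ≤ j.opensRange) (φ : R →+* Γ(X, V)) (C : Cx X) :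
    QuasiIso ((secC V φ).map ((resAdj j).unit.app C)) := by
  haveI : ∀ n, IsIso (((secC V φ).map ((resAdj j).unit.app C)).f n) := fun n => by
    rw [ConcreteCategory.isIso_iff_bijective]
    have he : j ''ᵁ j ⁻¹ᵁ V = V := by
      refine le_antisymm (j.image_preimage_le V) fun x hx => ?_
      obtain ⟨y, rfl⟩ := hV hx
      exact ⟨y, hx, rfl⟩
    have h0 : homOfLE (j.image_preimage_le V) = eqToHom he := Subsingleton.elim _ _
    haveI : IsIso ((C.X n).presheaf.map (homOfLE (j.image_preimage_le V)).op) := by
      rw [h0]; infer_instance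
    exact ConcreteCategory.bijective_of_isIso ((C.X n).presheaf.map (homOfLE (j.image_preimage_le V)).op)
  haveI := HomologicalComplex.Hom.isIso_of_components ((secC V φ).map ((resAdj j).unit.app C))
  infer_instance

end Open

variable {X : Scheme.{u}} {R : Type u} [CommRing R]

/-- Quasi-coherent terms on an affine open compute sections. -/
theorem quasiIso_sec_qcoh {V : X.Opens} (hV : IsAffineOpen V) (φ : R →+* Γ(X, V)) {C W : Cx X}
    (hC : ∀ n, LQ (C.X n) V) (hW : WI W) {η : C ⟶ W} (hη : QisOn V η) :
    QuasiIso ((secC V φ).map η) := by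
  let j := hV.fromSpec
  have hr : ∀ y, j y ∈ V := fun y => hV.range_fromSpec.le (Set.mem_range_self y)
  obtain ⟨J, i, hJ, hi, -⟩ := exists_injRes ((resJ j).obj C)
  haveI := hJ
  haveI := hi
  haveI : QuasiIso ((resJ j).map η) := (quasiIso_resJ_iff j η).2 fun y => hη _ (hr y)
  obtain ⟨v, ⟨H⟩⟩ := exists_lift_homotopy ((resJ j).map η) i
  let v' : W ⟶ (pushC j).obj J := (resAdj j).homEquiv _ _ v
  let η₀ : C ⟶ (pushC j).obj J := (resAdj j).homEquiv _ _ i
  have hH : Homotopy (η ≫ v') η₀ := by
    refine (Homotopy.ofEq ?_).trans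
      ((((Scheme.Modules.pushforward j).mapHomotopy H).compLeft ((resAdj j).unit.app C)).trans
        (Homotopy.ofEq ((resAdj j).homEquiv_unit _ _ i).symm))
    exact ((resAdj j).homEquiv_naturality_left η v).symm.trans ((resAdj j).homEquiv_unit _ _ _)
  haveI : QuasiIso v := by
    haveI : QuasiIso ((resJ j).map η ≫ v) := (quasiIso_congr_cx H).2 hi
    exact quasiIso_of_comp_left ((resJ j).map η) v
  have hv' : QisOn V v' := fun x hx => by
    haveI : QuasiIso ((resJ j).map v') := by
      have h : (resJ j).map v' ≫ (resAdj j).counit.app J = v :=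
        ((resAdj j).homEquiv_counit _ _ v').symm.trans (Equiv.symm_apply_apply _ v)
      haveI := isIso_resAdj_counit j J
      haveI : QuasiIso ((resJ j).map v' ≫ (resAdj j).counit.app J) := by rw [h]; infer_instance
      exact quasiIso_of_comp_right _ ((resAdj j).counit.app J)
    obtain ⟨y, rfl⟩ := (hV.range_fromSpec.ge hx : x ∈ Set.range j)
    exact (quasiIso_resJ_iff j v').1 inferInstance y
  haveI := quasiIso_sec φ hW (WI.push j (wi_of_isKInjective J)) hv'
  haveI : QuasiIso ((secC V φ).map η₀) := by
    have hu := quasiIso_sec_unit j hV.opensRange_fromSpec.ge φ C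
    have hpre : j ⁻¹ᵁ V = ⊤ := hV.fromSpec_preimage_self
    let ψ : R →+* Γ(Spec Γ(X, V), j ⁻¹ᵁ V) := (j.app V).hom.comp φ
    haveI := quasiIso_secC_spec Γ(X, V) (K := (resJ j).obj C) (fun n => (lq_iff hV _).1 (hC n)) i
      (j ⁻¹ᵁ V) hpre ψ
    let P := pullNat j φ ψ le_rfl fun r => by
      rw [← Scheme.Hom.app_eq_appLE]
      rfl
    let η' := NatTrans.mapHomologicalComplex P (ComplexShape.up ℤ)
    haveI : ∀ K, IsIso (η'.app K) := fun K => by
      haveI : ∀ n, IsIso ((η'.app K).f n) := fun n => by
        rw [ConcreteCategory.isIso_iff_bijective]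
        change Function.Bijective ((K.X n).presheaf.map (homOfLE (le_refl (j ⁻¹ᵁ V))).op)
        rw [show (homOfLE (le_refl (j ⁻¹ᵁ V))).op = 𝟙 _ from rfl, CategoryTheory.Functor.map_id]
        exact Function.bijective_id
      exact HomologicalComplex.Hom.isIso_of_components _
    haveI : QuasiIso ((secC V φ).map ((pushC j).map i)) := by
      haveI : QuasiIso ((secC V φ).map ((pushC j).map i) ≫ η'.app J) := by
        refine Eq.mpr (congrArg (fun k => QuasiIso k) (η'.naturality i)) ?_
        exact quasiIso_comp _ _
      exact quasiIso_of_comp_right _ (η'.app J)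
    rw [show η₀ = (resAdj j).unit.app C ≫ (pushC j).map i from (resAdj j).homEquiv_unit _ _ i,
      Functor.map_comp]
    infer_instance
  haveI : QuasiIso ((secC V φ).map η ≫ (secC V φ).map v') := by
    rw [← Functor.map_comp]
    exact (quasiIso_iff_of_homotopy (secFun V φ) hH).2 inferInstance
  exact quasiIso_of_comp_right _ ((secC V φ).map v')

end DerBCLib
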