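import Groth.Agent.DerBCLib.Induction
import Groth.Agent.DerBCLib.SecQcoh

/-!
# Goodness from a local model

A complex `C` with quasi-coherent terms on an affine open `V`, whose sections are acyclic for base
change, computes the base change map of every complex comparable with it on `V`.
-/

set_option autoImplicit false
set_option backward.isDefEq.respectTransparency false
set_option backward.isDefEq.respectTransparency.types false
set_option maxHeartbeats 1000000
set_option linter.style.haveILetI false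

universe u

open CategoryTheory CategoryTheory.Limits AlgebraicGeometry HomologicalComplex Opposite
open Groth.Agent Groth.Agent.DerLib Groth.Agent.PerfDualLib Groth.Agent.ProjFormLib
open RpushLib (secFun secMap₀ extSL extSL_tmul)
open scoped TensorProduct

attribute [local instance] HasDerivedCategory.standard

namespace DerBCLib

variable {X X' : Scheme.{u}} {R B : Type u} [CommRing R] [CommRing B] [Algebra R B] {g : X' ⟶ X}

/-- Homotopic maps have homotopic adjuncts. -/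
noncomputable def homEquivHomotopy (f : X' ⟶ X) {Z : Cx X} {M : Cx X'} {a b : (pullC f).obj Z ⟶ M}
    (h : Homotopy a b) : Homotopy ((cxAdj f).homEquiv Z M a) ((cxAdj f).homEquiv Z M b) :=
  (Homotopy.ofEq ((cxAdj f).homEquiv_unit _ _ a)).trans
    ((((Scheme.Modules.pushforward f).mapHomotopy h).compLeft _).trans
      (Homotopy.ofEq ((cxAdj f).homEquiv_unit _ _ b).symm))

theorem qisOn_of_quasiIso_cx {U : X.Opens} {K L : Cx X} (m : K ⟶ L) [QuasiIso m] : QisOn U m :=
  QisOn.of_quasiIso U m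

theorem qisOn_congr {U : X.Opens} {K L : Cx X} {a b : K ⟶ L} (h : Homotopy a b) (ha : QisOn U a) :
    QisOn U b := fun x hx =>
  (quasiIso_congr_cx ((DerSch.stalkFunctor X x).mapHomotopy h)).1 (ha x hx)

theorem qisOn_of_comp_left {U : X.Opens} {K L M : Cx X} {a : K ⟶ L} {b : L ⟶ M} (ha : QisOn U a)
    (h : QisOn U (a ≫ b)) : QisOn U b := fun x hx => by
  haveI := ha x hx
  haveI : QuasiIso ((KFlatLib.stalkCx X x).map a ≫ (KFlatLib.stalkCx X x).map b) := by
    rw [← Functor.map_comp]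
    exact h x hx
  exact quasiIso_of_comp_left ((KFlatLib.stalkCx X x).map a) _

theorem qisOn_comp {U : X.Opens} {K L M : Cx X} {a : K ⟶ L} {b : L ⟶ M} (ha : QisOn U a)
    (hb : QisOn U b) : QisOn U (a ≫ b) := fun x hx => by
  haveI := ha x hx
  haveI := hb x hx
  rw [Functor.map_comp]
  infer_instance

section Local

variable {V : X.Opens} (φ : R →+* Γ(X, V)) {U : X'.Opens} (ψ : B →+* Γ(X', U)) (hle : U ≤ g ⁻¹ᵁ V)
  (hc : ∀ r, g.appLE V U hle (φ r) = restr (R := R) B ψ r)

theorem bijective_secBC_unit (hV : IsAffineOpen V) (hU : IsAffineOpen U)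
    (hpo : IsPushout (CommRingCat.ofHom φ) (CommRingCat.ofHom (algebraMap R B)) (g.appLE V U hle)
      (CommRingCat.ofHom ψ))
    {C : Cx X} (hC : ∀ n, LQ (C.X n) V) :
    IsIso (secBC g φ ψ hle hc ((cxAdj g).unit.app C)) := by
  haveI : ∀ n, IsIso ((secBC g φ ψ hle hc ((cxAdj g).unit.app C)).f n) := fun n => by
    rw [ConcreteCategory.isIso_iff_bijective]
    let : Module R Γ(C.X n, V) := Module.compHom Γ(C.X n, V) φ
    have hb := bijective_secMap₀_lq g hV φ hU ψ hle hc hpo (C.X n) (hC n)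
    let F := ((secBC g φ ψ hle hc ((cxAdj g).unit.app C)).f n).hom
    let E := extSL (secMap₀ (σ := algebraMap R B) g φ ψ hle hc
      ((Scheme.Modules.pullbackPushforwardAdjunction g).unit.app (C.X n)))
    have h : ∀ x : B ⊗[R] Γ(C.X n, V), (show Γ(((pullC g).obj C).X n, U) from F x) =
        (show Γ(((pullC g).obj C).X n, U) from E x) := by
      intro x
      induction x using TensorProduct.induction_on with
      | zero => exact (map_zero F).trans (map_zero E).symm
      | tmul b m => exact (extSL_tmul (secMap₀ (σ := algebraMap R B) g φ ψ hle hc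
          ((Scheme.Modules.pullbackPushforwardAdjunction g).unit.app (C.X n))) b m).symm
      | add x y hx hy =>
        exact ((map_add F x y).trans (congrArg₂ (fun (a b : Γ(((pullC g).obj C).X n, U)) => a + b)
          hx hy)).trans (map_add E x y).symm
    change Function.Bijective fun x : B ⊗[R] Γ(C.X n, V) => (show Γ(((pullC g).obj C).X n, U) from F x)
    rw [funext h]
    exact hb
  exact HomologicalComplex.Hom.isIso_of_components _

/-- Goodness from a model with quasi-coherent terms and base change acyclic sections. -/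
theorem dGood_of_model (hV : IsAffineOpen V) (hU : IsAffineOpen U)
    (hpo : IsPushout (CommRingCat.ofHom φ) (CommRingCat.ofHom (algebraMap R B)) (g.appLE V U hle)
      (CommRingCat.ofHom ψ))
    {C : Cx X} (hC : ∀ n, LQ (C.X n) V) (hB : BGood (𝟙 ((tB B).obj ((secC V φ).obj C))))
    {Z W₀ : Cx X} {m : W₀ ⟶ Z} {c : W₀ ⟶ C} (hm : QisOn V m) (hcV : QisOn V c)
    (hm' : QisOn U ((pullC g).map m)) (hc' : QisOn U ((pullC g).map c))
    {M : Cx X'} [M.IsKInjective] (hfl : QRlimLib.Flasque M) {q : (pullC g).obj Z ⟶ M}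
    (hq : QisOn U q) (d : BCData g ((cxAdj g).homEquiv Z M q)) : DGood φ ψ hle hc d := by
  obtain ⟨M₁, i₁, hM₁, hi₁, hfl₁⟩ := exists_injRes ((pullC g).obj W₀)
  obtain ⟨M₂, i₂, hM₂, hi₂, hfl₂⟩ := exists_injRes ((pullC g).obj C)
  haveI := hM₁
  haveI := hi₁
  haveI := hM₂
  haveI := hi₂
  let a₁ := (cxAdj g).homEquiv W₀ M₁ i₁
  let a₂ := (cxAdj g).homEquiv C M₂ i₂
  obtain ⟨d₁, -⟩ := exists_terminal_data g (wi_of_isKInjective M₁) hfl₁ a₁
  obtain ⟨d₂, -⟩ := exists_terminal_data g (wi_of_isKInjective M₂) hfl₂ a₂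
  obtain ⟨e, ⟨He⟩⟩ := exists_lift_homotopy i₁ ((pullC g).map m ≫ q)
  obtain ⟨e', ⟨He'⟩⟩ := exists_lift_homotopy i₁ ((pullC g).map c ≫ i₂)
  have he : QisOn U e :=
    qisOn_of_comp_left (qisOn_of_quasiIso_cx i₁) (qisOn_congr He.symm (qisOn_comp hm' hq))
  have he' : QisOn U e' :=
    qisOn_of_comp_left (qisOn_of_quasiIso_cx i₁)
      (qisOn_congr He'.symm (qisOn_comp hc' (qisOn_of_quasiIso_cx i₂)))
  have K : Homotopy (a₁ ≫ (pushC g).map e) (m ≫ (cxAdj g).homEquiv Z M q) :=
    (Homotopy.ofEq ((cxAdj g).homEquiv_naturality_right i₁ e).symm).trans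
      ((homEquivHomotopy g He).trans (Homotopy.ofEq ((cxAdj g).homEquiv_naturality_left m q)))
  have K' : Homotopy (a₁ ≫ (pushC g).map e') (c ≫ a₂) :=
    (Homotopy.ofEq ((cxAdj g).homEquiv_naturality_right i₁ e').symm).trans
      ((homEquivHomotopy g He').trans (Homotopy.ofEq ((cxAdj g).homEquiv_naturality_left c i₂)))
  refine (dGood_iff φ ψ hle hc d d₁ (wi_of_isKInjective M) (wi_of_isKInjective M₁) hfl m e K hm he).1
    ((dGood_iff φ ψ hle hc d₂ d₁ (wi_of_isKInjective M₂) (wi_of_isKInjective M₁) hfl₂ c e' K'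
      hcV he').2 ?_)
  -- the model
  let θ₀ := secBC g φ ψ hle hc ((cxAdj g).unit.app C)
  haveI : IsIso θ₀ := bijective_secBC_unit φ ψ hle hc hV hU hpo hC
  haveI := d₂.qis
  haveI := quasiIso_sec_qcoh hV φ hC d₂.wi (qisOn_of_quasiIso_cx (U := V) d₂.j)
  haveI := quasiIso_sec_qcoh hU (restr (R := R) B ψ) (fun n => lq_pb g hV (hC n) hU hle)
    (wi_of_isKInjective M₂) (qisOn_of_quasiIso_cx (U := U) i₂)
  have h1 : BGood θ₀ := (bGood_iff_of_square (𝟙 _) θ₀ (𝟙 _) θ₀ (Homotopy.ofEq (by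
    rw [CategoryTheory.Functor.map_id]))).2 hB
  refine (bGood_iff_of_square θ₀ (secBC g φ ψ hle hc d₂.χ) ((secC V φ).map d₂.j)
    ((secC U (restr (R := R) B ψ)).map i₂) ?_).2 h1
  have w₁ := secBC_natural g φ ψ hle hc d₂.χ (d₂.j ≫ d₂.χ) d₂.j (𝟙 M₂)
    (by rw [CategoryTheory.Functor.map_id, Category.comp_id])
  rw [CategoryTheory.Functor.map_id, Category.comp_id] at w₁
  have hu : (cxAdj g).unit.app C ≫ (pushC g).map i₂ = a₂ := ((cxAdj g).homEquiv_unit _ _ i₂).symm
  have w₂ := secBC_natural g φ ψ hle hc a₂ ((cxAdj g).unit.app C) (𝟙 C) i₂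
    ((Category.id_comp _).trans hu.symm)
  have w₃ : secBC g φ ψ hle hc a₂ = θ₀ ≫ (secC U (restr (R := R) B ψ)).map i₂ := by
    refine Eq.trans ?_ w₂
    exact ((congrArg (fun k => (tB B).map k ≫ secBC g φ ψ hle hc a₂) ((secC V φ).map_id C)).trans
      ((congrArg (· ≫ secBC g φ ψ hle hc a₂) ((tB B).map_id _)).trans (Category.id_comp _))).symm
  exact (Homotopy.ofEq w₁).trans ((linBHomotopy ψ
    (((secFun V φ).mapHomotopy d₂.htpy).compRight _)).trans (Homotopy.ofEq w₃))

end Local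

section OK

variable (g) {W : X.Opens} (φ : R →+* Γ(X, W)) {O : X'.Opens} (hO : O ≤ g ⁻¹ᵁ W)
  (φ' : B →+* Γ(X', O)) (hφ : ∀ r, g.appLE W O hO (φ r) = φ' (algebraMap R B r))

/-- A local model on an affine open gives goodness there. -/
theorem ok_of_model {V : X.Opens} (hV : IsAffineOpen V) (hU : IsAffineOpen (g ⁻¹ᵁ V ⊓ O))
    (hpo : ∀ hVW : V ≤ W, IsPushout (CommRingCat.ofHom (RpushLib.resφ φ hVW))
      (CommRingCat.ofHom (algebraMap R B)) (g.appLE V (g ⁻¹ᵁ V ⊓ O) inf_le_left)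
      (CommRingCat.ofHom (RpushLib.resφ φ' (inf_le_right : g ⁻¹ᵁ V ⊓ O ≤ O))))
    {C : Cx X} (hC : ∀ n, LQ (C.X n) V)
    (hB : ∀ hVW : V ≤ W, BGood (𝟙 ((tB B).obj ((secC V (RpushLib.resφ φ hVW)).obj C))))
    {Z W₀ : Cx X} {m : W₀ ⟶ Z} {c : W₀ ⟶ C} (hm : QisOn V m) (hcV : QisOn V c)
    (hm' : QisOn (g ⁻¹ᵁ V) ((pullC g).map m)) (hc' : QisOn (g ⁻¹ᵁ V) ((pullC g).map c))
    {M : Cx X'} [M.IsKInjective] (hfl : QRlimLib.Flasque M) {q : (pullC g).obj Z ⟶ M} [QuasiIso q]
    (d : BCData g ((cxAdj g).homEquiv Z M q)) : OK g φ hO φ' hφ d.χ V := fun hVW =>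
  dGood_of_model (RpushLib.resφ φ hVW) (RpushLib.resφ φ' (inf_le_right : g ⁻¹ᵁ V ⊓ O ≤ O)) inf_le_left
    (compat_res g φ hO φ' hφ hVW inf_le_left inf_le_right) hV hU (hpo hVW) hC (hB hVW) hm hcV
    (fun x hx => hm' x hx.1) (fun x hx => hc' x hx.1) hfl (qisOn_of_quasiIso_cx q) d

end OK

end DerBCLib
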