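import Groth.Agent.DerBCLib.WI
import Groth.Agent.DerBCLib.Alg
import Groth.Agent.RpushLib.MV

/-!
# Sections of complexes: base change maps and Mayer–Vietoris
-/

set_option autoImplicit false
set_option backward.isDefEq.respectTransparency false
set_option backward.isDefEq.respectTransparency.types false
set_option maxHeartbeats 1000000
set_option linter.style.haveILetI false

universe u

open CategoryTheory CategoryTheory.Limits AlgebraicGeometry HomologicalComplex Opposite MonoidalCategory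
open Groth.Agent.PerfDualLib Groth.Agent.ProjFormLib
open RpushLib (secFun resφ)
open scoped TensorProduct

namespace DerBCLib

variable {X X' : Scheme.{u}} {R B : Type u} [CommRing R] [CommRing B] [Algebra R B]

/-- Restriction of sections, as a natural transformation. -/
noncomputable def resNat {U V : X.Opens} (φ : R →+* Γ(X, V)) (ψ : R →+* Γ(X, U)) (h : U ≤ V)
    (hc : ∀ r, X.presheaf.map (homOfLE h).op (φ r) = ψ r) : secFun V φ ⟶ secFun U ψ where
  app M := @ModuleCat.ofHom R _ ((secFun V φ).obj M) ((secFun U ψ).obj M) _ _ _ _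
    { toFun := fun m => M.presheaf.map (homOfLE h).op (show Γ(M, V) from m)
      map_add' := fun _ _ => map_add (M.presheaf.map (homOfLE h).op).hom _ _
      map_smul' := fun r m => by
        refine (Scheme.Modules.map_smul M _ (φ r) (show Γ(M, V) from m)).trans ?_
        exact congrArg (fun s : Γ(X, U) => s • M.presheaf.map (homOfLE h).op (show Γ(M, V) from m))
          (hc r) }
  naturality {M N} a := ModuleCat.hom_ext (LinearMap.ext fun m =>
    (QCohLib.app_map a (homOfLE h) m).symm)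

theorem resNat_apply {U V : X.Opens} (φ : R →+* Γ(X, V)) (ψ : R →+* Γ(X, U)) (h : U ≤ V)
    (hc : ∀ r, X.presheaf.map (homOfLE h).op (φ r) = ψ r) (M : X.Modules) (m : Γ(M, V)) :
    ((resNat φ ψ h hc).app M).hom m = M.presheaf.map (homOfLE h).op m := rfl

theorem resNat_comp {D U V : X.Opens} (φ : R →+* Γ(X, V)) (ψ : R →+* Γ(X, U)) (χ : R →+* Γ(X, D))
    (h : U ≤ V) (h' : D ≤ U) (hc : ∀ r, X.presheaf.map (homOfLE h).op (φ r) = ψ r)
    (hc' : ∀ r, X.presheaf.map (homOfLE h').op (ψ r) = χ r)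
    (hc'' : ∀ r, X.presheaf.map (homOfLE (h'.trans h)).op (φ r) = χ r) :
    resNat φ ψ h hc ≫ resNat ψ χ h' hc' = resNat φ χ (h'.trans h) hc'' := by
  refine NatTrans.ext (funext fun M => ModuleCat.hom_ext (LinearMap.ext fun m => ?_))
  exact QCohLib.map_map' M (homOfLE h') (homOfLE h) m

/-- Sections of a direct image, restricted. -/
noncomputable def pullNat (g : X' ⟶ X) {V : X.Opens} (φ : R →+* Γ(X, V)) {U : X'.Opens}
    (ψ : R →+* Γ(X', U)) (h : U ≤ g ⁻¹ᵁ V) (hc : ∀ r, g.appLE V U h (φ r) = ψ r) :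
    Scheme.Modules.pushforward g ⋙ secFun V φ ⟶ secFun U ψ where
  app M := @ModuleCat.ofHom R _ ((secFun V φ).obj ((Scheme.Modules.pushforward g).obj M))
    ((secFun U ψ).obj M) _ _ _ _
    { toFun := fun m => M.presheaf.map (homOfLE h).op (show Γ(M, g ⁻¹ᵁ V) from m)
      map_add' := fun _ _ => map_add (M.presheaf.map (homOfLE h).op).hom _ _
      map_smul' := fun r m => by
        refine (Scheme.Modules.map_smul M _ (g.app V (φ r)) (show Γ(M, g ⁻¹ᵁ V) from m)).trans ?_
        exact congrArg (fun s : Γ(X', U) =>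
          s • M.presheaf.map (homOfLE h).op (show Γ(M, g ⁻¹ᵁ V) from m)) (hc r) }
  naturality {M N} a := ModuleCat.hom_ext (LinearMap.ext fun m =>
    (QCohLib.app_map a (homOfLE h) m).symm)

theorem pullNat_apply (g : X' ⟶ X) {V : X.Opens} (φ : R →+* Γ(X, V)) {U : X'.Opens}
    (ψ : R →+* Γ(X', U)) (h : U ≤ g ⁻¹ᵁ V) (hc : ∀ r, g.appLE V U h (φ r) = ψ r) (M : X'.Modules)
    (m : Γ(M, g ⁻¹ᵁ V)) :
    ((pullNat g φ ψ h hc).app M).hom m = M.presheaf.map (homOfLE h).op m := rfl

variable (B) in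
/-- The composite with the structure map. -/
abbrev restr {A : Type u} [CommRing A] (ψ : B →+* A) : R →+* A := ψ.comp (algebraMap R B)

/-- Multiplication by `B`, as a bilinear map. -/
noncomputable def actLin {U : X'.Opens} (ψ : B →+* Γ(X', U)) (M : X'.Modules) :
    B →ₗ[R] ((secFun U (restr (R := R) B ψ)).obj M) →ₗ[R] ((secFun U (restr (R := R) B ψ)).obj M) :=
  let N : ModuleCat.{u} R := (secFun U (restr (R := R) B ψ)).obj M
  let a : B → N → N := fun b m => show Γ(M, U) from ψ b • (show Γ(M, U) from m)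
  @LinearMap.mk₂ R _ B N N _ _ _ _ _ _ a
    (fun b b' m => show ψ (b + b') • (show Γ(M, U) from m) =
        ψ b • (show Γ(M, U) from m) + ψ b' • (show Γ(M, U) from m) by rw [map_add, add_smul])
    (fun r b m => show ψ (r • b) • (show Γ(M, U) from m) =
        ψ (algebraMap R B r) • (ψ b • (show Γ(M, U) from m)) by
      rw [Algebra.smul_def, map_mul, mul_smul])
    (fun b m m' => smul_add (ψ b) (show Γ(M, U) from m) (show Γ(M, U) from m'))
    (fun r b m => show ψ b • (ψ (algebraMap R B r) • (show Γ(M, U) from m)) =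
        ψ (algebraMap R B r) • (ψ b • (show Γ(M, U) from m)) by
      rw [← mul_smul, ← mul_smul, mul_comm])

/-- `B ⊗ Γ(U, M) ⟶ Γ(U, M)` for a ring map `B → Γ(U, O)`. -/
noncomputable def actNat {U : X'.Opens} (ψ : B →+* Γ(X', U)) :
    secFun U (restr (R := R) B ψ) ⋙ tensorLeft (Bm (R := R) B) ⟶ secFun U (restr (R := R) B ψ) where
  app M := @ModuleCat.ofHom R _
    ((secFun U (restr (R := R) B ψ) ⋙ tensorLeft (Bm (R := R) B)).obj M)
    ((secFun U (restr (R := R) B ψ)).obj M) _ _ _ _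
    (TensorProduct.lift (actLin (R := R) ψ M))
  naturality {M N} a := ModuleCat.hom_ext (TensorProduct.ext' fun b m =>
    (a.app_smul (ψ b) (show Γ(M, U) from m)).symm)

theorem actNat_tmul {U : X'.Opens} (ψ : B →+* Γ(X', U)) (M : X'.Modules) (b : B)
    (m : (secFun U (restr (R := R) B ψ)).obj M) :
    (show Γ(M, U) from ((actNat (R := R) ψ).app M).hom (b ⊗ₜ[R] m)) =
      ψ b • (show Γ(M, U) from m) := rfl

/-- Multiplication by `B` on complexes of sections. -/
noncomputable def actC {U : X'.Opens} (ψ : B →+* Γ(X', U)) (M : Cx X') :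
    (tB B).obj ((secC U (restr (R := R) B ψ)).obj M) ⟶ (secC U (restr (R := R) B ψ)).obj M where
  f n := (actNat (R := R) ψ).app (M.X n)
  comm' i j _ := ((actNat (R := R) ψ).naturality (M.d i j)).symm

/-- `B`-linearisation of a map into sections. -/
noncomputable def linB {U : X'.Opens} (ψ : B →+* Γ(X', U)) {N : CochainComplex (ModuleCat.{u} R) ℤ}
    {M : Cx X'} (t : N ⟶ (secC U (restr (R := R) B ψ)).obj M) :
    (tB B).obj N ⟶ (secC U (restr (R := R) B ψ)).obj M :=
  (tB B).map t ≫ actC ψ M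

theorem linB_comp_left {U : X'.Opens} (ψ : B →+* Γ(X', U))
    {N N₀ : CochainComplex (ModuleCat.{u} R) ℤ} {M : Cx X'} (s : N₀ ⟶ N)
    (t : N ⟶ (secC U (restr (R := R) B ψ)).obj M) : (tB B).map s ≫ linB ψ t = linB ψ (s ≫ t) := by
  simp only [linB, Functor.map_comp, Category.assoc]

theorem linB_comp_right {U : X'.Opens} (ψ : B →+* Γ(X', U))
    {N : CochainComplex (ModuleCat.{u} R) ℤ} {M M₀ : Cx X'}
    (t : N ⟶ (secC U (restr (R := R) B ψ)).obj M) (m : M ⟶ M₀) :
    linB ψ t ≫ (secC U (restr (R := R) B ψ)).map m =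
      linB ψ (t ≫ (secC U (restr (R := R) B ψ)).map m) := by
  refine HomologicalComplex.hom_ext _ _ fun n => ModuleCat.hom_ext (TensorProduct.ext' fun b x => ?_)
  exact (m.f n).app_smul (ψ b) ((t.f n).hom x)

theorem linB_res {U U₀ : X'.Opens} (ψ : B →+* Γ(X', U)) (ψ₀ : B →+* Γ(X', U₀)) (h : U₀ ≤ U)
    (hc : ∀ b, X'.presheaf.map (homOfLE h).op (ψ b) = ψ₀ b)
    {N : CochainComplex (ModuleCat.{u} R) ℤ} {M : Cx X'}
    (t : N ⟶ (secC U (restr (R := R) B ψ)).obj M) :
    linB ψ t ≫ (NatTrans.mapHomologicalComplex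
        (resNat _ (restr (R := R) B ψ₀) h fun r => hc _) (ComplexShape.up ℤ)).app M =
      linB ψ₀ (t ≫ (NatTrans.mapHomologicalComplex
        (resNat _ (restr (R := R) B ψ₀) h fun r => hc _) (ComplexShape.up ℤ)).app M) := by
  refine HomologicalComplex.hom_ext _ _ fun n => ModuleCat.hom_ext (TensorProduct.ext' fun b x => ?_)
  refine (Scheme.Modules.map_smul (M.X n) _ (ψ b) ((t.f n).hom x)).trans ?_
  exact congrArg (fun s : Γ(X', U₀) => s •
    (M.X n).presheaf.map (homOfLE h).op ((t.f n).hom x)) (hc b)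

/-- Homotopic maps give homotopic linearisations. -/
noncomputable def linBHomotopy {U : X'.Opens} (ψ : B →+* Γ(X', U))
    {N : CochainComplex (ModuleCat.{u} R) ℤ} {M : Cx X'}
    {t t' : N ⟶ (secC U (restr (R := R) B ψ)).obj M} (h : Homotopy t t') :
    Homotopy (linB ψ t) (linB ψ t') :=
  ((tensorLeft (Bm (R := R) B)).mapHomotopy h).compRight _

/-! ### Mayer–Vietoris -/

section MV

variable {W : X.Opens} (φ : R →+* Γ(X, W))

/-- Restriction between two opens inside `W`. -/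
noncomputable def resC {U V : X.Opens} (h : U ≤ V) (hV : V ≤ W) :
    secC V (resφ φ hV) ⟶ secC U (resφ φ (h.trans hV)) :=
  NatTrans.mapHomologicalComplex (resNat _ _ h (RpushLib.resφ_res φ h hV)) (ComplexShape.up ℤ)

variable (K : Cx X) {A U V D : X.Opens} (hA : A ≤ W) (hU : U ≤ A) (hV : V ≤ A) (hDU : D ≤ U)
  (hDV : D ≤ V)

theorem resC_comp : (resC φ hU hA).app K ≫ (resC φ hDU (hU.trans hA)).app K =
    (resC φ (hDU.trans hU) hA).app K := by
  ext n m
  exact QCohLib.map_map' (K.X n) (homOfLE hDU) (homOfLE hU) m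

/-- `0 → Γ(A) → Γ(U) ⊕ Γ(V) → Γ(D) → 0`. -/
noncomputable def mvZ : ShortComplex (CochainComplex (ModuleCat.{u} R) ℤ) :=
  ShortComplex.mk (biprod.lift ((resC φ hU hA).app K) ((resC φ hV hA).app K))
    (biprod.desc ((resC φ hDU (hU.trans hA)).app K) (-(resC φ hDV (hV.trans hA)).app K)) (by
      rw [biprod.lift_desc, Preadditive.comp_neg, resC_comp, resC_comp, add_neg_cancel])

theorem mvZ_shortExact (hfl : QRlimLib.Flasque K) (eA : A = U ⊔ V) (eD : D = U ⊓ V) :
    (mvZ φ K hA hU hV hDU hDV).ShortExact := by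
  subst eA eD
  refine HomologicalComplex.shortExact_of_degreewise_shortExact _ fun n => ?_
  let P := (secC U (resφ φ (hU.trans hA))).obj K
  let Q := (secC V (resφ φ (hV.trans hA))).obj K
  have hfst : ∀ a, ((biprod.fst : P ⊞ Q ⟶ P).f n).hom (((biprod.inl : P ⟶ P ⊞ Q).f n).hom a) = a :=
    fun a => congr(($(biprod.inl_fst (X := P) (Y := Q)).f n).hom a)
  have hdec : ∀ z, ((biprod.inl : P ⟶ P ⊞ Q).f n).hom (((biprod.fst : P ⊞ Q ⟶ P).f n).hom z) +
      ((biprod.inr : Q ⟶ P ⊞ Q).f n).hom (((biprod.snd : P ⊞ Q ⟶ Q).f n).hom z) = z :=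
    fun z => congr(($(biprod.total (X := P) (Y := Q)).f n).hom z)
  have hgl : ∀ a, ((mvZ φ K hA hU hV hDU hDV).g.f n).hom (((biprod.inl : P ⟶ P ⊞ Q).f n).hom a) =
      (K.X n).presheaf.map (homOfLE hDU).op a :=
    fun a => congr(($(biprod.inl_desc ((resC φ hDU (hU.trans hA)).app K)
      (-(resC φ hDV (hV.trans hA)).app K)).f n).hom a)
  have hgr : ∀ a, ((mvZ φ K hA hU hV hDU hDV).g.f n).hom (((biprod.inr : Q ⟶ P ⊞ Q).f n).hom a) =
      -(K.X n).presheaf.map (homOfLE hDV).op a :=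
    fun a => congr(($(biprod.inr_desc ((resC φ hDU (hU.trans hA)).app K)
      (-(resC φ hDV (hV.trans hA)).app K)).f n).hom a)
  have hffst : ∀ y, ((biprod.fst : P ⊞ Q ⟶ P).f n).hom (((mvZ φ K hA hU hV hDU hDV).f.f n).hom y) =
      (K.X n).presheaf.map (homOfLE hU).op y :=
    fun y => congr(($(biprod.lift_fst ((resC φ hU hA).app K) ((resC φ hV hA).app K)).f n).hom y)
  have hfsnd : ∀ y, ((biprod.snd : P ⊞ Q ⟶ Q).f n).hom (((mvZ φ K hA hU hV hDU hDV).f.f n).hom y) =
      (K.X n).presheaf.map (homOfLE hV).op y :=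
    fun y => congr(($(biprod.lift_snd ((resC φ hU hA).app K) ((resC φ hV hA).app K)).f n).hom y)
  refine { exact := ?_, mono_f := ?_, epi_g := ?_ }
  · rw [ShortComplex.moduleCat_exact_iff]
    intro z hz
    let s : Γ(K.X n, U) := ((biprod.fst : P ⊞ Q ⟶ P).f n).hom z
    let t : Γ(K.X n, V) := ((biprod.snd : P ⊞ Q ⟶ Q).f n).hom z
    have hst : (K.X n).presheaf.map (homOfLE hDU).op s = (K.X n).presheaf.map (homOfLE hDV).op t := by
      have h1 := (map_add ((mvZ φ K hA hU hV hDU hDV).g.f n).hom _ _).symm.trans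
        (congrArg ((mvZ φ K hA hU hV hDU hDV).g.f n).hom (hdec z))
      have h2 := ((congrArg₂ (· + ·) (hgl s) (hgr t)).symm.trans (h1.trans hz))
      exact add_neg_eq_zero.mp h2
    obtain ⟨y, hy₁, hy₂⟩ := QCohLib.glue_two s t hst
    refine ⟨y, ?_⟩
    refine ((hdec _).symm.trans ?_).trans (hdec z)
    exact congrArg₂ (· + ·) (congrArg ((biprod.inl : P ⟶ P ⊞ Q).f n).hom ((hffst y).trans hy₁))
      (congrArg ((biprod.inr : Q ⟶ P ⊞ Q).f n).hom ((hfsnd y).trans hy₂))
  · rw [ModuleCat.mono_iff_injective]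
    intro a b h
    exact QCohLib.ext_two (S := U) (V := V)
      ((hffst a).symm.trans ((congrArg ((biprod.fst : P ⊞ Q ⟶ P).f n).hom h).trans (hffst b)))
      ((hfsnd a).symm.trans ((congrArg ((biprod.snd : P ⊞ Q ⟶ Q).f n).hom h).trans (hfsnd b)))
  · rw [ModuleCat.epi_iff_surjective]
    intro d
    obtain ⟨s, hs⟩ := hfl n hDU d
    exact ⟨((biprod.inl : P ⟶ P ⊞ Q).f n).hom s, (hgl s).trans hs⟩

end MV

end DerBCLib
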